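import Mathlib.RingTheory.Henselian
import Mathlib.RingTheory.LocalRing.ResidueField.Basic
import Mathlib.LinearAlgebra.LinearIndependent.Lemmas
import Mathlib.LinearAlgebra.Dimension.LinearMap
import Mathlib.FieldTheory.Normal.Basic
import Mathlib.Algebra.Polynomial.BigOperators
import Mathlib.RingTheory.Polynomial.Nilpotent

/-!
# Hilbert 90 and norms for units congruent to one in a henselian local ring with a finite group action
-/

universe u v

open Polynomial IsLocalRing

namespace Groth.Agent.BrauerXHens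

variable {E : Type u} [CommRing E] [HenselianLocalRing E] {M : Type v} [Field M] (q : E →+* M)
  (hq : Function.Surjective q) {G : Type*} [Group G] [Fintype G] (ψ : G →* (E ≃+* E)) (σ : G →* (M ≃+* M))
  (hσ : Function.Injective σ) (hψσ : ∀ g e, q (ψ g e) = σ g (q e))

include hσ in
omit [Fintype G] in
theorem linearIndependent_sigma : LinearIndependent M fun g : G => (⇑(σ g) : M → M) := by
  have h : Function.Injective fun g : G => ((σ g).toRingHom.toMonoidHom : M →* M) := fun a b h =>
    hσ (RingEquiv.ext fun x => congrFun (congrArg (fun f : M →* M => (f : M → M)) h) x)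
  exact (linearIndependent_monoidHom M M).comp _ h

include hσ in
/-- a nontrivial combination of the automorphisms is nonzero somewhere -/
theorem exists_sum_ne_zero (c : G → M) (hc : c 1 ≠ 0) : ∃ a : M, ∑ g, c g * σ g a ≠ 0 := by
  by_contra h
  push Not at h
  refine hc (Fintype.linearIndependent_iff.1 (linearIndependent_sigma σ hσ) c ?_ 1)
  funext a
  simpa using h a

include hq hσ hψσ

/-- some twisted sum is a unit -/
theorem exists_isUnit_sum (f : G → Eˣ) : ∃ y : E, IsUnit (∑ g, (f g : E) * ψ g y) ∧ IsUnit y := by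
  have : IsLocalHom q := IsLocalHom.of_surjective q hq
  obtain ⟨a, ha⟩ := exists_sum_ne_zero σ hσ (fun g => q (f g)) ((f 1).isUnit.map q).ne_zero
  obtain ⟨y, rfl⟩ := hq a
  refine ⟨y, IsUnit.of_map q _ ?_, IsUnit.of_map q _ (isUnit_iff_ne_zero.2 fun h => ha ?_)⟩
  · simp only [map_sum, map_mul, hψσ]
    exact isUnit_iff_ne_zero.2 ha
  · simp only [h, map_zero, mul_zero, Finset.sum_const_zero]

omit hq hσ hψσ in
theorem map_sum_psi (g : G) (y : E) : ψ g (∑ h, ψ h y) = ∑ h, ψ h y := by
  rw [map_sum]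
  refine Fintype.sum_equiv (Equiv.mulLeft g) _ _ fun h => ?_
  rw [Equiv.coe_mulLeft, map_mul]
  rfl

/-- an invertible element of trace one -/
theorem exists_trace_one : ∃ y : E, IsUnit y ∧ ∑ g, ψ g y = 1 := by
  obtain ⟨y₀, hs, hy₀⟩ := exists_isUnit_sum q hq ψ σ hσ hψσ (fun _ => 1)
  simp only [Units.val_one, one_mul] at hs
  let s := hs.unit
  refine ⟨y₀ * ↑s⁻¹, hy₀.mul s⁻¹.isUnit, ?_⟩
  have hfix : ∀ g, ψ g (↑s⁻¹ : E) = ↑s⁻¹ := fun g => by
    refine (Units.eq_inv_of_mul_eq_one_left (u := s) ?_)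
    calc (s : E) * ψ g (↑s⁻¹ : E) = ψ g (s : E) * ψ g (↑s⁻¹ : E) := by
          rw [show ψ g (s : E) = s from map_sum_psi ψ g y₀]
      _ = 1 := by rw [← map_mul, Units.mul_inv, map_one]
  simp only [map_mul, hfix, ← Finset.sum_mul]
  exact s.mul_inv

/-- Hilbert 90, for units congruent to one modulo a stable ideal -/
theorem exists_h90 (J : Ideal E) (hJ : ∀ g, ∀ x ∈ J, ψ g x ∈ J) (f : G → Eˣ)
    (hfJ : ∀ g, (f g : E) - 1 ∈ J)
    (hf : ∀ g h, ((f (g * h) : Eˣ) : E) = ψ g (f h : E) * f g) :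
    ∃ b : Eˣ, (b : E) - 1 ∈ J ∧ ∀ g, (f g : E) * b = ψ g b := by
  obtain ⟨y, hy, hyJ⟩ : ∃ y : E, IsUnit (∑ g, (f g : E) * ψ g y) ∧ (∑ g, (f g : E) * ψ g y) - 1 ∈ J := by
    rcases eq_or_ne J ⊤ with rfl | hJ'
    · obtain ⟨y, hy, -⟩ := exists_isUnit_sum q hq ψ σ hσ hψσ f
      exact ⟨y, hy, trivial⟩
    · obtain ⟨y, -, hy⟩ := exists_trace_one q hq ψ σ hσ hψσ
      have h : (∑ g, (f g : E) * ψ g y) - 1 ∈ J := by
        rw [show (∑ g, (f g : E) * ψ g y) - 1 = ∑ g, ((f g : E) - 1) * ψ g y by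
          rw [Finset.sum_congr rfl fun g _ => sub_one_mul ((f g : E)) (ψ g y), Finset.sum_sub_distrib, hy]]
        exact J.sum_mem fun g _ => J.mul_mem_right _ (hfJ g)
      refine ⟨y, ?_, h⟩
      have := IsLocalRing.isUnit_one_sub_self_of_mem_nonunits (-((∑ g, (f g : E) * ψ g y) - 1))
        (IsLocalRing.le_maximalIdeal hJ' (J.neg_mem h))
      simpa using this
  let b := hy.unit
  have hb : ∀ g, (f g : E) * ψ g (b : E) = b := fun g => by
    show (f g : E) * ψ g (∑ h, (f h : E) * ψ h y) = ∑ h, (f h : E) * ψ h y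
    rw [map_sum, Finset.mul_sum]
    refine Fintype.sum_equiv (Equiv.mulLeft g) _ _ fun h => ?_
    rw [Equiv.coe_mulLeft, map_mul, hf, map_mul, ← mul_assoc, mul_comm (f g : E)]
    rfl
  refine ⟨b⁻¹, ?_, fun g => ?_⟩
  · have : (↑b⁻¹ : E) - 1 = -(↑b⁻¹ * ((b : E) - 1)) := by rw [mul_sub, Units.inv_mul, mul_one, neg_sub]
    rw [this]
    exact J.neg_mem (J.mul_mem_left _ hyJ)
  · have h1 : ψ g (↑b⁻¹ : E) * ψ g (b : E) = 1 := by rw [← map_mul, Units.inv_mul, map_one]
    calc (f g : E) * ↑b⁻¹ = (f g : E) * ↑b⁻¹ * (ψ g (↑b⁻¹ : E) * ψ g (b : E)) := by rw [h1, mul_one]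
      _ = ((f g : E) * ψ g (b : E)) * ↑b⁻¹ * ψ g (↑b⁻¹ : E) := by ring
      _ = ψ g (↑b⁻¹ : E) := by rw [hb, Units.mul_inv, one_mul]

/-- norms are surjective on units congruent to one modulo a proper stable ideal -/
theorem exists_norm (J : Ideal E) (hJ' : J ≠ ⊤) (x : E) (hxJ : x - 1 ∈ J) (hx : ∀ g, ψ g x = x) :
    ∃ z : Eˣ, (z : E) - 1 ∈ J ∧ ∏ g, ψ g (z : E) = x := by
  classical
  obtain ⟨y, hy, hy1⟩ := exists_trace_one q hq ψ σ hσ hψσ
  let u := hy.unit
  let N : E := ∏ g, ψ g (↑u⁻¹ : E)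
  let a : G → E := fun g => ψ g (↑u⁻¹ : E)
  have ha : ∀ g, ψ g y * a g = 1 := fun g => by rw [← map_mul, hy.mul_val_inv, map_one]
  let Q : E[X] := (∏ g, (X + C (a g))) - C (x * N)
  have hprod : (∏ g : G, (X + C (a g))).Monic := monic_prod_of_monic _ _ fun g _ => monic_X_add_C _
  have hdeg : (C (x * N)).degree < (∏ g : G, (X + C (a g))).degree := by
    refine degree_C_le.trans_lt ?_
    rw [degree_eq_natDegree hprod.ne_zero, natDegree_prod_of_monic _ _ fun g _ => monic_X_add_C _]
    simp [Fintype.card_pos]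
  have hmonic : Q.Monic := hprod.sub_of_left hdeg
  have h0 : Q.eval 0 = (1 - x) * N := by
    simp [Q, eval_prod, N, a, sub_mul]
  have hN : IsUnit N := IsUnit.prod_univ_iff.2 fun g => u⁻¹.isUnit.map (ψ g)
  have h0' : Q.derivative.eval 0 = N := by
    simp only [Q, derivative_sub, derivative_C, sub_zero, derivative_prod_finset, derivative_add, eval_finsetSum, eval_mul,
      eval_prod, eval_add, eval_X, eval_C, zero_add, derivative_X, add_zero, eval_one, mul_one]
    calc ∑ g : G, ∏ h ∈ Finset.univ.erase g, a h = ∑ g : G, ψ g y * N := Finset.sum_congr rfl fun g _ => by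
          rw [show N = a g * ∏ h ∈ Finset.univ.erase g, a h from (Finset.mul_prod_erase _ _ (Finset.mem_univ g)).symm,
            ← mul_assoc, ha, one_mul]
      _ = N := by rw [← Finset.sum_mul, hy1, one_mul]
  have hm : Q.eval 0 ∈ J := by
    rw [h0]
    exact J.mul_mem_right _ (by rw [show (1 : E) - x = -(x - 1) by ring]; exact J.neg_mem hxJ)
  obtain ⟨t, ht, htm⟩ := HenselianLocalRing.is_henselian Q hmonic 0 (IsLocalRing.le_maximalIdeal hJ' hm)
    (by rw [h0']; exact hN)
  rw [sub_zero] at htm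
  have hder : ∀ w : E, Q.eval w = 0 → w ∈ maximalIdeal E → w = t ∧ w ∈ J := by
    have hadd : ∀ m : E, m ∈ maximalIdeal E → IsUnit (N + m) := fun m hm => by
      by_contra h
      have h2 := (maximalIdeal E).sub_mem ((IsLocalRing.mem_maximalIdeal _).2 h) hm
      rw [add_sub_cancel_right] at h2
      exact (IsLocalRing.mem_maximalIdeal _).1 h2 hN
    have hunit : ∀ w c : E, w ∈ maximalIdeal E → IsUnit (N + w * c) := fun w c hw =>
      hadd _ ((maximalIdeal E).mul_mem_right c hw)
    have exp : ∀ w : E, ∃ c, Q.eval w = Q.eval 0 + w * (N + w * c) := fun w => by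
      obtain ⟨c, hc⟩ := Q.binomExpansion 0 w
      refine ⟨c, ?_⟩
      rw [zero_add] at hc
      rw [hc, h0']
      ring
    intro w hw hwm
    constructor
    · obtain ⟨c, hc⟩ := Q.binomExpansion t (w - t)
      rw [add_sub_cancel, hw, show Q.eval t = 0 from ht, zero_add] at hc
      obtain ⟨d, hd⟩ := Q.derivative.binomExpansion 0 t
      rw [zero_add, h0'] at hd
      have hu : IsUnit (Q.derivative.eval t + c * (w - t)) := by
        rw [hd, add_assoc, add_assoc]
        exact hadd _ ((maximalIdeal E).add_mem (Ideal.mul_mem_left _ _ htm) ((maximalIdeal E).add_mem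
            (Ideal.mul_mem_left _ _ (Ideal.pow_mem_of_mem _ htm 2 two_pos))
            (Ideal.mul_mem_left _ c ((maximalIdeal E).sub_mem hwm htm))))
      have hz : (Q.derivative.eval t + c * (w - t)) * (w - t) = 0 := by linear_combination -hc
      exact sub_eq_zero.1 (hu.mul_right_eq_zero.1 hz)
    · obtain ⟨c, hc⟩ := exp w
      rw [hw] at hc
      have : w = -(Q.eval 0) * ↑(hunit w c hwm).unit⁻¹ := by
        rw [show -(Q.eval 0) = w * (hunit w c hwm).unit from by rw [IsUnit.unit_spec]; linear_combination hc,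
          mul_assoc, Units.mul_inv, mul_one]
      rw [this]
      exact J.mul_mem_right _ (J.neg_mem hm)
  have hfix : ∀ g, ψ g t = t := fun g => by
    refine ((hder (ψ g t) ?_ ?_).1)
    · have hNfix : ψ g N = N := by
        simp only [N, map_prod]
        refine Fintype.prod_equiv (Equiv.mulLeft g) _ _ fun h => ?_
        rw [Equiv.coe_mulLeft, map_mul]
        rfl
      have hQ : Q.map (ψ g : E →+* E) = Q := by
        simp only [Q, Polynomial.map_sub, Polynomial.map_prod, Polynomial.map_add, map_X, Polynomial.map_C]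
        congr 1
        · refine Fintype.prod_equiv (Equiv.mulLeft g) _ _ fun h => ?_
          show X + C (ψ g (a h)) = X + C (a (g * h))
          simp only [a, map_mul]
          rfl
        · show C (ψ g (x * N)) = C (x * N)
          rw [map_mul (ψ g), hx, hNfix]
      have h1 := congrArg (fun P => P.eval ((ψ g : E →+* E) t)) hQ
      simp only [eval_map, eval₂_at_apply, show Q.eval t = 0 from ht, map_zero] at h1
      exact h1.symm
    · exact fun h => htm ((isUnit_map_iff (ψ g) t).1 h)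
  have htJ : t ∈ J := (hder t ht htm).2
  have hz : IsUnit (1 + t * y) := by
    have := IsLocalRing.isUnit_one_sub_self_of_mem_nonunits (-(t * y))
      ((maximalIdeal E).neg_mem ((maximalIdeal E).mul_mem_right y htm))
    simpa using this
  refine ⟨hz.unit, by rw [IsUnit.unit_spec, add_sub_cancel_left]; exact J.mul_mem_right _ htJ, ?_⟩
  rw [IsUnit.unit_spec]
  calc ∏ g, ψ g (1 + t * y) = ∏ g, ψ g y * (t + a g) := Finset.prod_congr rfl fun g _ => by
        rw [map_add, map_one, map_mul, hfix, mul_add, ha]; ring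
    _ = (∏ g, ψ g y) * ∏ g, (t + a g) := Finset.prod_mul_distrib
    _ = (∏ g, ψ g y) * (x * N) := by
        have : Q.eval t = 0 := ht
        simp [Q, eval_prod, sub_eq_zero] at this
        rw [this]
    _ = x * ∏ g, ψ g y * a g := by rw [Finset.prod_mul_distrib]; ring
    _ = x := by simp [ha]

end Groth.Agent.BrauerXHens
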