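import Groth.Agent.BrauerXHens.GmGood
import Groth.Agent.BrauerXCurve.MaxPoint
import Groth.Agent.S0071
import Groth.Agent.S0101
import Groth.Agent.S14451

/-!
# `G_m → u_* G_m` for a closed immersion, and its kernel on finite étale lifts
-/

universe u

open CategoryTheory CategoryTheory.Limits AlgebraicGeometry Opposite TopologicalSpace CategoryTheory.Abelian

namespace Groth.Agent.BrauerXHens

open Groth.Agent.EtFound Groth.Agent.BrauerXCurve

set_option backward.isDefEq.respectTransparency.types false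

/-- invertible functions on a closed subscheme lift locally -/
theorem exists_nhd_unit_lift {P V : Scheme.{u}} (pr : P ⟶ V) [IsClosedImmersion pr] (t : Γ(P, ⊤)) (ht : IsUnit t)
    (p : V) : ∃ (W : V.Opens), p ∈ W ∧ ∃ s : Γ(W.toScheme, ⊤), IsUnit s ∧
      ∀ (P' : Scheme.{u}) (g : P' ⟶ P) (pr' : P' ⟶ W.toScheme), g ≫ pr = pr' ≫ W.ι →
        pr'.appTop s = g.appTop t := by
  by_cases hp : p ∈ Set.range pr.base
  swap
  · let W : V.Opens := ⟨(Set.range pr.base)ᶜ, pr.isClosedEmbedding.isClosed_range.isOpen_compl⟩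
    refine ⟨W, hp, 1, isUnit_one, fun P' g pr' hw => ?_⟩
    have : IsEmpty P' := ⟨fun x => (pr' x).2 ⟨g x, by
      rw [← Scheme.Hom.comp_apply, hw, Scheme.Hom.comp_apply]; rfl⟩⟩
    exact TopCat.Presheaf.section_ext P'.sheaf ⊤ _ _ fun x _ => isEmptyElim (x : P')
  obtain ⟨q, rfl⟩ := hp
  obtain ⟨σ, hσ⟩ := pr.stalkMap_surjective q (P.presheaf.germ ⊤ q trivial t)
  obtain ⟨W₀, hW₀, s₀, rfl⟩ := V.presheaf.exists_germ_eq σ
  have hu : IsUnit (V.presheaf.germ W₀ (pr q) hW₀ s₀) := by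
    have : IsLocalHom (pr.stalkMap q).hom := pr.toLRSHom.prop q
    refine IsUnit.of_map (pr.stalkMap q).hom _ ?_
    change IsUnit (pr.stalkMap q _)
    rw [hσ]
    exact ht.map _
  let W₁ : V.Opens := V.basicOpen s₀
  have hW₁ : pr q ∈ W₁ := (V.mem_basicOpen s₀ _ hW₀).2 hu
  have h₀ : P.presheaf.germ (pr ⁻¹ᵁ W₀) q hW₀ (pr.app W₀ s₀) = P.presheaf.germ ⊤ q trivial t :=
    (pr.germ_stalkMap_apply W₀ q hW₀ s₀).symm.trans hσ
  obtain ⟨O, hqO, i₁, i₂, heO⟩ := P.presheaf.germ_eq (U := pr ⁻¹ᵁ W₀) (V := ⊤) q hW₀ trivial _ t h₀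
  obtain ⟨O', hO', hOO'⟩ := pr.isEmbedding.isInducing.isOpen_iff.1 O.isOpen
  let W : V.Opens := W₁ ⊓ ⟨O', hO'⟩
  have hqW : pr q ∈ W := ⟨hW₁, show q ∈ pr ⁻¹' O' by rw [hOO']; exact hqO⟩
  have hWW : W ≤ W₀ := inf_le_left.trans (V.basicOpen_le s₀)
  have hpre : pr ⁻¹ᵁ W ≤ O := fun x hx => by
    have : x ∈ pr ⁻¹' O' := hx.2
    rw [hOO'] at this
    exact this
  let s₁ : Γ(V, W) := V.presheaf.map (homOfLE hWW).op s₀
  have hs₁ : IsUnit s₁ := by
    have := (RingedSpace.isUnit_res_basicOpen V.toRingedSpace s₀).map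
      (V.presheaf.map (homOfLE (inf_le_left : W ≤ V.basicOpen s₀)).op).hom
    convert this using 1
    change _ = V.presheaf.map _ (V.presheaf.map _ s₀)
    rw [← ConcreteCategory.comp_apply, ← Functor.map_comp]
    rfl
  have heq : pr.app W s₁ = P.presheaf.map (homOfLE (le_top : pr ⁻¹ᵁ W ≤ ⊤)).op t := by
    have e := congrArg (P.presheaf.map (homOfLE hpre).op) heO
    simp only [← ConcreteCategory.comp_apply, ← Functor.map_comp] at e
    show (V.presheaf.map (homOfLE hWW).op ≫ pr.app W) s₀ = _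
    rw [Scheme.Hom.naturality]
    simp only [Category.assoc, ← Functor.map_comp] at e
    exact e
  refine ⟨W, hqW, W.ι.appLE W ⊤ (fun x _ => x.2) s₁, hs₁.map _, fun P' g pr' hw => ?_⟩
  have hg : ⊤ ≤ g ⁻¹ᵁ (pr ⁻¹ᵁ W) := fun x _ => by
    change pr (g x) ∈ W
    rw [← Scheme.Hom.comp_apply, hw, Scheme.Hom.comp_apply]
    exact (pr' x).2
  have e1 : pr'.appTop (W.ι.appLE W ⊤ (fun x _ => x.2) s₁) = (g ≫ pr).appLE W ⊤ hg s₁ := by
    rw [← ConcreteCategory.comp_apply]
    refine congrArg (fun m : Γ(V, W) ⟶ Γ(P', ⊤) => m s₁) ?_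
    change _ ≫ pr'.app ⊤ = _
    rw [Scheme.Hom.app_eq_appLE, Scheme.Hom.appLE_comp_appLE]
    simp only [hw]
    rfl
  have e2 : (g ≫ pr).appLE W ⊤ hg s₁ = g.appTop t := by
    rw [← Scheme.Hom.appLE_comp_appLE g pr W (pr ⁻¹ᵁ W) ⊤ le_rfl hg, ConcreteCategory.comp_apply,
      ← Scheme.Hom.app_eq_appLE, heq, ← ConcreteCategory.comp_apply]
    refine congrArg (fun m : Γ(P, ⊤) ⟶ Γ(P', ⊤) => m t) ?_
    rw [Scheme.Hom.map_appLE]
    exact (Scheme.Hom.app_eq_appLE g).symm
  exact e1.trans e2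

theorem epi_GmPush {X Y : Scheme.{u}} (i : Y ⟶ X) [IsClosedImmersion i] : Epi (EtLim.GmPush i) := by
  refine (Sheaf.isLocallySurjective_iff_epi' _ _).1 ⟨fun {U} t => (mem_topology_iff _).2 fun p => ?_⟩
  let t' : EtCoh.sect (EtCoh.Gm Y) ((EtCoh.bc i).obj U) := t
  obtain ⟨O, hO, s, hs, hprop⟩ := exists_nhd_unit_lift (pullback.fst U.hom i)
    (gmFun t' : Γ(((EtCoh.bc i).obj U).left, ⊤)) (gmFun t').isUnit p
  refine ⟨_, restrictEtaleHom U O, ⟨p, hO⟩, ⟨gmSect hs.unit, ?_⟩, rfl⟩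
  refine gmFun_ext (X := Y) (V := (EtCoh.bc i).obj (restrictEtale U O)) ?_
  refine (gmFun_gmPush i _ _).trans ?_
  exact hprop _ ((EtCoh.bc i).map (restrictEtaleHom U O)).left _
    (EtCoh.isPullback_bc_map i (restrictEtaleHom U O)).w

theorem mem_range_kernel_iff {X : Scheme.{u}} {F G : EtCoh.Ab X} (u : F ⟶ G) (T : X.Etale) (s : EtCoh.sect F T) :
    s ∈ Set.range ((kernel.ι u).hom.app (op T)) ↔ u.hom.app (op T) s = 0 := by
  let secF := (sheafSections X.smallEtaleTopology AddCommGrpCat.{u + 1}).obj (op T)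
  have : PreservesFiniteLimits secF :=
    have : PreservesFiniteLimits (sheafToPresheaf X.smallEtaleTopology AddCommGrpCat.{u + 1}) := inferInstance
    comp_preservesFiniteLimits (sheafToPresheaf X.smallEtaleTopology AddCommGrpCat.{u + 1})
      ((evaluation _ _).obj (op T))
  have : secF.Additive := ⟨fun {F G f g} => rfl⟩
  let S := ShortComplex.mk (kernel.ι u) u (kernel.condition _)
  have hS : S.Exact := ShortComplex.exact_of_f_is_kernel _ (kernelIsKernel _)
  have hS' : (S.map secF).Exact :=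
    (((Functor.preservesFiniteLimits_tfae secF).out 3 1 rfl rfl).1 inferInstance S ⟨hS, inferInstance⟩).1
  refine ⟨?_, fun h => (ShortComplex.ab_exact_iff _).1 hS' s h⟩
  rintro ⟨a, rfl⟩
  exact congrArg (fun m : kernel u ⟶ G => m.hom.app (op T) a) (kernel.condition u)

variable {R : Type u} [CommRing R] [HenselianLocalRing R] (I : Ideal R)

/-- the closed subscheme -/
noncomputable abbrev quotMap : Spec (CommRingCat.of (R ⧸ I)) ⟶ Spec (CommRingCat.of R) :=
  Spec.map (CommRingCat.ofHom (Ideal.Quotient.mk I))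

theorem isOneUnits_kernel : IsOneUnits I (kernel.ι (EtLim.GmPush (quotMap I))) where
  inj T :=
    have h : Mono (kernel.ι (EtLim.GmPush (quotMap I))) := inferInstance
    injective_of_stalks (kernel.ι (EtLim.GmPush (quotMap I))) ((mono_iff_stalks _).1 h) T
  range M _ _ _ _ D s := by
    rw [mem_range_kernel_iff]
    let J := I.map (algebraMap R D.E)
    let a' : R ⧸ I →+* D.E ⧸ J := Ideal.quotientMap J (algebraMap R D.E) Ideal.le_comap_map
    have sq := isPullback_of_surjective (Ideal.Quotient.mk I) (algebraMap R D.E) a' (Ideal.Quotient.mk J)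
      Ideal.Quotient.mk_surjective Ideal.Quotient.mk_surjective (RingHom.ext fun r => rfl)
      (by rw [Ideal.mk_ker, Ideal.mk_ker])
    let e := sq.isoPullback
    let v : Γ(Spec (CommRingCat.of D.E), ⊤) :=
      ((Additive.toMul (D.gmEquiv s).down : (Γ(Spec (CommRingCat.of D.E), ⊤) : Type u)ˣ) : _)
    have hinj : Function.Injective e.hom.appTop :=
      ((ConcreteCategory.isIso_iff_bijective e.hom.appTop).1 (inferInstanceAs (IsIso (Scheme.Γ.map e.hom.op)))).1
    have hv : (Spec.map (CommRingCat.ofHom (Ideal.Quotient.mk J))).appTop v =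
        e.hom.appTop ((pullback.fst D.obj.hom (quotMap I) :
          ((EtCoh.bc (quotMap I)).obj D.obj).left ⟶ D.obj.left).appTop v) := by
      exact congrArg (fun m : Spec (CommRingCat.of (D.E ⧸ J)) ⟶ Spec (CommRingCat.of D.E) => m.appTop v)
        sq.isoPullback_hom_fst.symm
    let φE := (Scheme.ΓSpecIso (CommRingCat.of (D.E ⧸ J))).commRingCatIsoToRingEquiv
    have hnat : φE ((Spec.map (CommRingCat.ofHom (Ideal.Quotient.mk J))).appTop v) =
        Ideal.Quotient.mk J (D.val s : D.E) :=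
      congrArg (fun m => m.hom v) (Scheme.ΓSpecIso_naturality (CommRingCat.ofHom (Ideal.Quotient.mk J)))
    constructor
    · intro h
      rw [← Ideal.Quotient.eq, map_one, ← hnat, hv]
      have h1 : (pullback.fst D.obj.hom (quotMap I) :
          ((EtCoh.bc (quotMap I)).obj D.obj).left ⟶ D.obj.left).appTop v = 1 := by
        refine (gmFun_gmPush (quotMap I) D.obj s).symm.trans ?_
        rw [h]
        rfl
      rw [h1]
      exact (congrArg φE (map_one e.hom.appTop.hom)).trans (map_one φE)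
    · intro h
      rw [← Ideal.Quotient.eq, map_one, ← hnat, hv, ← map_one φE] at h
      refine gmFun_ext (X := Spec (CommRingCat.of (R ⧸ I))) (V := (EtCoh.bc (quotMap I)).obj D.obj) ?_
      refine (gmFun_gmPush (quotMap I) D.obj s).trans ?_
      refine hinj ((φE.injective h).trans (map_one e.hom.appTop.hom).symm |>.trans ?_)
      rfl

theorem subsingleton_H_kernel (hI : I ≠ ⊤) (n : ℕ) :
    Subsingleton (EtCoh.H (Spec (CommRingCat.of R)) (kernel (EtLim.GmPush (quotMap I))) (n + 1)) := by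
  have := pull_preservesFiniteLimits (cpt R)
  refine subsingleton_of_forall_eq 0 fun y => ?_
  refine (EtLC12.HenselClosedPoint.Hpull_bijective R _ (n + 1)).1 ?_
  exact (van n _ _ (good_pull hI (isOneUnits_kernel I)) _).trans (map_zero _).symm

theorem HGmPull_bijective (hI : I ≠ ⊤) [PreservesFiniteLimits (EtCoh.pull (quotMap I))] (n : ℕ) :
    Function.Bijective (EtLim.HGmPull (quotMap I) (n + 1)) := by
  have : IsClosedImmersion (quotMap I) := IsClosedImmersion.spec_of_surjective _ Ideal.Quotient.mk_surjective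
  have hb := S14451.result (quotMap I) (EtCoh.Gm (Spec (CommRingCat.of (R ⧸ I))))
    (fun i hi => S0071.result _ _ i hi) (n + 1)
  have := epi_GmPush (quotMap I)
  let S := ShortComplex.mk (kernel.ι (EtLim.GmPush (quotMap I))) (EtLim.GmPush (quotMap I)) (kernel.condition _)
  have hS : S.ShortExact := { exact := ShortComplex.exact_of_f_is_kernel _ (kernelIsKernel _) }
  show Function.Bijective (⇑(EtLim.HofPush (quotMap I) (EtCoh.Gm (Spec (CommRingCat.of (R ⧸ I)))) (n + 1)) ∘
    ⇑((EtCoh.HF (Spec (CommRingCat.of R)) (n + 1)).map (EtLim.GmPush (quotMap I))).hom)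
  refine hb.comp ⟨?_, fun y => ?_⟩
  · refine (injective_iff_map_eq_zero ((EtCoh.HF _ (n + 1)).map (EtLim.GmPush (quotMap I))).hom).2 fun x hx => ?_
    obtain ⟨z, rfl⟩ := Ext.covariant_sequence_exact₂ _ hS x hx
    rw [@Subsingleton.elim _ (subsingleton_H_kernel I hI n) z 0, Ext.zero_comp]
    rfl
  · obtain ⟨x, hx⟩ := Ext.covariant_sequence_exact₃ _ hS y (n₁ := n + 2) rfl
      (@Subsingleton.elim _ (subsingleton_H_kernel I hI (n + 1)) _ _)
    exact ⟨x, hx⟩

end Groth.Agent.BrauerXHens
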