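import Groth.Agent.GalEt.BrauerVanish
import Groth.Agent.BrauerXPoint.GaloisLift

/-!
# Cohomologically trivial sheaves on the étale site of a field

If every finite group acting faithfully on a finite separable extension has trivial `H¹` and
trivial `Ĥ⁰` on the sections of `B`, then `B` has no cohomology in positive degrees.
-/

universe u

open CategoryTheory CategoryTheory.Limits AlgebraicGeometry Opposite CategoryTheory.Abelian

namespace Groth.Agent.BrauerXHens

open Groth.Agent.GalEt

set_option backward.isDefEq.respectTransparency.types false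
set_option synthInstance.maxHeartbeats 400000
set_option maxHeartbeats 1000000

/-- finite groups of automorphisms have trivial `H¹` on the sections -/
def H1Good (k : Type u) [Field k] (B : EtCoh.Ab (Spec (CommRingCat.of k))) : Prop :=
  ∀ (M : Type u) [Field M] [Algebra k M] [FiniteDimensional k M] [Algebra.IsSeparable k M]
    (G : Type u) [Group G] [Fintype G] (φ : G →* (M ≃ₐ[k] M)), Function.Injective φ →
    ∀ c : G → EtCoh.sect B (extObj k M),
      (∀ g h, c (g * h) = B.obj.map (autIso k (φ g)).hom.op (c h) + c g) →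
      ∃ b : EtCoh.sect B (extObj k M), ∀ g, c g = B.obj.map (autIso k (φ g)).hom.op b - b

/-- finite groups of automorphisms have trivial `H¹` and trivial `Ĥ⁰` on the sections -/
structure Good (k : Type u) [Field k] (B : EtCoh.Ab (Spec (CommRingCat.of k))) : Prop where
  h1 : H1Good k B
  tr : ∀ (M : Type u) [Field M] [Algebra k M] [FiniteDimensional k M] [Algebra.IsSeparable k M]
    (G : Type u) [Group G] [Fintype G] (φ : G →* (M ≃ₐ[k] M)), Function.Injective φ →
    ∀ t : EtCoh.sect B (extObj k M), (∀ g, B.obj.map (autIso k (φ g)).hom.op t = t) →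
      ∃ b : EtCoh.sect B (extObj k M), ∑ g, B.obj.map (autIso k (φ g)).hom.op b = t

variable {k : Type u} [Field k] {B : EtCoh.Ab (Spec (CommRingCat.of k))}

theorem H1Good.galH1Trivial (hB : H1Good k B) : GalH1Trivial k B := by
  intro M _ _ _ _ c hc
  have : Fintype Gal(M/k) := Fintype.ofFinite _
  obtain ⟨b, hb⟩ := hB M Gal(M/k) (MonoidHom.id _) (fun _ _ h => h) (fun g => c (autIso k g)) fun g h => by
    have e : autIso k (g * h) = autIso k g ≪≫ autIso k h := by
      refine Iso.ext ?_
      show extMap _ = extMap g.toAlgHom ≫ extMap h.toAlgHom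
      rw [extMap_comp]
      rfl
    show c (autIso k (g * h)) = _
    rw [e, hc]
    rfl
  refine ⟨b, fun σ => ?_⟩
  obtain ⟨g, rfl⟩ := exists_autIso M σ
  exact hb g

section restr

variable (L : Type u) [Field L] [Algebra k L] [FiniteDimensional k L] [Algebra.IsSeparable k L]

variable (M : Type u) [Field M] [Algebra k M] [FiniteDimensional k M] [Algebra.IsSeparable k M] [Algebra L M]
  [FiniteDimensional L M] [Algebra.IsSeparable L M] [IsScalarTower k L M]

/-- `Spec M` over `L` seen over `k` -/
noncomputable def compExtIso :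
    (EtShriek.compEtale (π (extObj k L))).obj (extObj L M) ≅ extObj k M :=
  MorphismProperty.Over.isoMk (Iso.refl (Spec (CommRingCat.of M))) (by
    refine (Category.id_comp _).trans ?_
    show Spec.map (CommRingCat.ofHom (algebraMap k M)) =
      Spec.map (CommRingCat.ofHom (algebraMap L M)) ≫ Spec.map (CommRingCat.ofHom (algebraMap k L))
    rw [← Spec.map_comp, ← CommRingCat.ofHom_comp, ← IsScalarTower.algebraMap_eq])

theorem compExtIso_natural (σ : M ≃ₐ[L] M) :
    (EtShriek.compEtale (π (extObj k L))).map (autIso L σ).hom ≫ (compExtIso (k := k) L M).hom =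
      (compExtIso (k := k) L M).hom ≫ (autIso k (σ.restrictScalars k)).hom :=
  MorphismProperty.Over.Hom.ext <| by
    have h : (σ.restrictScalars k).toAlgHom.toRingHom = σ.toAlgHom.toRingHom := RingHom.ext fun _ => rfl
    show Spec.map (CommRingCat.ofHom σ.toAlgHom.toRingHom) ≫ 𝟙 (Spec (CommRingCat.of M)) =
      𝟙 (Spec (CommRingCat.of M)) ≫ Spec.map (CommRingCat.ofHom (σ.restrictScalars k).toAlgHom.toRingHom)
    rw [h, Category.comp_id, Category.id_comp]

end restr

/-- the `H¹` half of `Good` passes to finite separable extensions -/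
theorem h1_restr (hB : H1Good k B) (L : Type u) [Field L] [Algebra k L] [FiniteDimensional k L]
    [Algebra.IsSeparable k L] : H1Good L ((EtShriek.restrAlong (π (extObj k L))).obj B) := by
  intro M _ _ _ _ G _ _ φ hφ c hc
  let : Algebra k M := ((algebraMap L M).comp (algebraMap k L)).toAlgebra
  have : IsScalarTower k L M := IsScalarTower.of_algebraMap_eq fun _ => rfl
  have : FiniteDimensional k M := Module.Finite.trans L M
  have : Algebra.IsSeparable k M := Algebra.IsSeparable.trans k L M
  let ψ : G →* (M ≃ₐ[k] M) :=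
    MonoidHom.mk' (fun g => (φ g).restrictScalars k) fun g h => by ext x; simp
  have hψ : Function.Injective ψ := fun a b h => hφ (AlgEquiv.ext fun x => AlgEquiv.congr_fun (h : _) x)
  let e := compExtIso (k := k) L M
  have key : ∀ (g : G) (x : EtCoh.sect B (extObj k M)),
      B.obj.map ((EtShriek.compEtale (π (extObj k L))).map (autIso L (φ g)).hom).op (B.obj.map e.hom.op x) =
        B.obj.map e.hom.op (B.obj.map (autIso k (ψ g)).hom.op x) := fun g x => by
    rw [hom_comp_map B, hom_comp_map B, compExtIso_natural]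
    rfl
  let c₀ : G → EtCoh.sect B (extObj k M) := fun g => B.obj.map e.inv.op (c g)
  have hce : ∀ g, B.obj.map e.hom.op (c₀ g) = c g := fun g => by
    rw [hom_comp_map B, e.hom_inv_id, GalEt.id_map]
  have hinj : Function.Injective (B.obj.map e.hom.op) :=
    Function.LeftInverse.injective (g := B.obj.map e.inv.op) fun x => by
      rw [hom_comp_map B, e.inv_hom_id, GalEt.id_map]
  obtain ⟨b, hb⟩ := hB M G ψ hψ c₀ fun g h => hinj <| by
    rw [hce, map_add, ← key, hce, hce]
    exact hc g h
  refine ⟨B.obj.map e.hom.op b, fun g => ?_⟩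
  rw [← hce g, hb g, map_sub, ← key]
  rfl

set_option maxHeartbeats 2000000 in
theorem Good.restr (hB : Good k B) (L : Type u) [Field L] [Algebra k L] [FiniteDimensional k L]
    [Algebra.IsSeparable k L] : Good L ((EtShriek.restrAlong (π (extObj k L))).obj B) := by
  constructor
  · exact h1_restr hB.h1 L
  · intro M _ _ _ _ G _ _ φ hφ t ht
    let : Algebra k M := ((algebraMap L M).comp (algebraMap k L)).toAlgebra
    have : IsScalarTower k L M := IsScalarTower.of_algebraMap_eq fun _ => rfl
    have : FiniteDimensional k M := Module.Finite.trans L M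
    have : Algebra.IsSeparable k M := Algebra.IsSeparable.trans k L M
    let ψ : G →* (M ≃ₐ[k] M) :=
      MonoidHom.mk' (fun g => (φ g).restrictScalars k) fun g h => by ext x; simp
    have hψ : Function.Injective ψ := fun a b h => hφ (AlgEquiv.ext fun x => AlgEquiv.congr_fun (h : _) x)
    let e := compExtIso (k := k) L M
    have key : ∀ (g : G) (x : EtCoh.sect B (extObj k M)),
        B.obj.map ((EtShriek.compEtale (π (extObj k L))).map (autIso L (φ g)).hom).op (B.obj.map e.hom.op x) =
          B.obj.map e.hom.op (B.obj.map (autIso k (ψ g)).hom.op x) := fun g x => by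
      rw [hom_comp_map B, hom_comp_map B, compExtIso_natural]
      rfl
    let t₀ : EtCoh.sect B (extObj k M) := B.obj.map e.inv.op t
    have hte : B.obj.map e.hom.op t₀ = t := by
      rw [hom_comp_map B, e.hom_inv_id, GalEt.id_map]
    have hinj : Function.Injective (B.obj.map e.hom.op) :=
      Function.LeftInverse.injective (g := B.obj.map e.inv.op) fun x => by
        rw [hom_comp_map B, e.inv_hom_id, GalEt.id_map]
    obtain ⟨b, hb⟩ := hB.tr M G ψ hψ t₀ fun g => hinj <| by
      rw [← key, hte]
      exact ht g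
    refine ⟨B.obj.map e.hom.op b, ?_⟩
    rw [← hte, ← hb, map_sum]
    exact Finset.sum_congr rfl fun g _ => key g b

/-- inverse image to a finite separable extension is restriction -/
noncomputable def resIso (L : Type u) [Field L] [Algebra k L] [FiniteDimensional k L] [Algebra.IsSeparable k L]
    (B : EtCoh.Ab (Spec (CommRingCat.of k))) :
    ((EtCoh.pull (specOver k L)).obj B : EtCoh.Ab (Spec (CommRingCat.of L))) ≅
      ((EtShriek.restrAlong (π (extObj k L))).obj B : EtCoh.Ab (Spec (CommRingCat.of L))) :=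
  (restrIso (extObj k L)).symm.app B

/-- the image of a class over a finite separable extension -/
noncomputable def cls (L : Type u) [Field L] [Algebra k L] [FiniteDimensional k L] [Algebra.IsSeparable k L]
    {n : ℕ} (y : EtCoh.H (Spec (CommRingCat.of k)) B n) :
    EtCoh.H (Spec (CommRingCat.of L)) ((EtShriek.restrAlong (π (extObj k L))).obj B) n :=
  ((Ext.mk₀ (EtCore.pullConst (specOver k L) ℤ).inv).comp (pullExt (specOver k L) y) (zero_add n)).comp
    (Ext.mk₀ (resIso L B).hom) (add_zero n)

theorem pullExt_eq_zero_of_cls (L : Type u) [Field L] [Algebra k L] [FiniteDimensional k L] [Algebra.IsSeparable k L]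
    {n : ℕ} (y : EtCoh.H (Spec (CommRingCat.of k)) B n) (h : cls L y = 0) :
    pullExt (specOver k L) y = 0 := by
  refine eq_zero_of_mk₀_iso_comp (EtCore.pullConst (specOver k L) ℤ).symm _ ?_
  have h' := congrArg (fun e : EtCoh.H (Spec (CommRingCat.of L)) ((EtShriek.restrAlong (π (extObj k L))).obj B) n =>
    e.comp (Ext.mk₀ (resIso L B).inv) (add_zero n)) h
  simp only [cls, Ext.zero_comp] at h'
  refine Eq.trans ?_ h'
  refine Eq.trans ?_ (Ext.comp_assoc_of_third_deg_zero _ _ _ (add_zero n)).symm
  refine Eq.trans ?_ (congrArg (fun e => Ext.comp _ e (add_zero n))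
    ((Ext.mk₀_comp_mk₀ _ _).trans (congrArg Ext.mk₀ (resIso L B).hom_inv_id))).symm
  exact (Ext.comp_mk₀_id _).symm

theorem pullExt_cls (L M : Type u) [Field L] [Algebra k L] [FiniteDimensional k L] [Algebra.IsSeparable k L]
    [Field M] [Algebra k M] [Algebra L M] [IsScalarTower k L M]
    {n : ℕ} (y : EtCoh.H (Spec (CommRingCat.of k)) B n)
    (h : pullExt (specOver k M) y = 0) : pullExt (specOver L M) (cls L y) = 0 :=
  (pullExt_mk₀_iso_comp_eq_zero (specOver L M) (EtCore.pullConst (specOver k L) ℤ).symm
    (resIso L B) _).2 (killed_tower k L M y h)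

/-- vanishing in degree `m + 1` for every field and every good sheaf -/
def Van (m : ℕ) : Prop :=
  ∀ (k : Type u) [Field k] (B : EtCoh.Ab (Spec (CommRingCat.of k))), Good k B →
    ∀ y : EtCoh.H (Spec (CommRingCat.of k)) B (m + 1), y = 0

section cyclic

variable (L : Type u) [Field L] [Algebra k L] [FiniteDimensional k L] [IsGalois k L]

theorem H_RT_eq_zero (hB : Good k B) {m : ℕ} (hm : Van.{u} m)
    (x : EtCoh.H (Spec (CommRingCat.of k)) (RT L B) (m + 1)) : x = 0 := by
  let f := π (extObj k L)
  have := isIntegralHom_extObj (k := k) (L := L)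
  have := EtFound.push_preservesFiniteLimits f
  have := EtFound.push_preservesFiniteColimits f
  have := EtFound.pull_preservesFiniteLimits f
  have : (EtCoh.pull f).PreservesMonomorphisms := inferInstance
  let G := (EtShriek.restrAlong f).obj B
  obtain ⟨z, rfl⟩ := (EtMVLib.adjExtMap_bijective (EtCoh.pullPushAdj f) _ G (m + 1)).2 x
  suffices z = 0 by rw [this]; exact map_zero _
  exact eq_zero_of_mk₀_iso_comp (EtCore.pullConst f ℤ).symm z (hm L G (hB.restr L) _)

theorem exists_trR_top (hB : Good k B) (t : EtCoh.sect B (EtCoh.top (Spec (CommRingCat.of k)))) :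
    ∃ s, (trR L B).hom.app (op (EtCoh.top (Spec (CommRingCat.of k)))) s = t := by
  classical
  have : Fintype Gal(L/k) := Fintype.ofFinite _
  let T := extObj k L
  obtain ⟨b, hb⟩ := hB.tr L Gal(L/k) (MonoidHom.id _) (fun _ _ h => h) (B.obj.map (GalEt.toTop T).op t) fun g => by
    rw [hom_comp_map B]
    congr 4
    exact (EtCore.topIsTerminal _).hom_ext _ _
  refine ⟨B.obj.map (pr₂ T (EtCoh.top _)).op b, ?_⟩
  have := subsingleton_top (k := k)
  refine injective_res B (GalEt.toTop T) (default : Spec (CommRingCat.of L)) ?_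
  refine ((isGaloisObj_extObj (k := k) L).trace_naturality B (GalEt.toTop T) _).symm.trans ?_
  refine (trR_graph L B (𝟙 _) _).trans ?_
  rw [← hb]
  refine Finset.sum_congr rfl fun g _ => ?_
  rw [hom_comp_map B, hom_comp_map B]
  congr 4
  rw [Category.assoc, map_pr₂, graph_pr₂, Category.id_comp]
  rfl

theorem eq_zero_of_cyclic (hB : Good k B) (σ : Gal(L/k)) (hσ : ∀ g : Gal(L/k), g ∈ Subgroup.zpowers σ) {n : ℕ}
    (ih : ∀ m ≤ n, Van.{u} m) (y : EtCoh.H (Spec (CommRingCat.of k)) B (n + 2))
    (hy : pullExt (specOver k L) y = 0) : y = 0 := by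
  have hA := shortExact_seqA L B
  have hBs := shortExact_seqB L B σ hσ
  obtain ⟨β, hβ⟩ := Ext.covariant_sequence_exact₁ _ hBs y (comp_resR_eq_zero L B y hy) (n₀ := n + 1) rfl
  suffices h0 : β = 0 by rw [← hβ, h0, Ext.zero_comp]
  rcases n with _ | n
  · have : Subsingleton (Sheaf.H (seqA L B).X₂ 1) :=
      subsingleton_of_forall_eq 0 (H_RT_eq_zero L hB (ih 0 le_rfl))
    obtain ⟨φ, hφ, hker⟩ := Adeq2Lib.ZarCmp.h1_pres (EtCore.topIsTerminal _) (seqA L B) hA
    obtain ⟨t, rfl⟩ := hφ β
    exact (hker t).2 (exists_trR_top L hB t)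
  · obtain ⟨γ, hγ⟩ := Ext.covariant_sequence_exact₁ _ hA β
      (H_RT_eq_zero L hB (ih (n + 1) le_rfl) _) (n₀ := n + 1) rfl
    rw [← hγ, ih n (Nat.le_succ n) k B hB γ, Ext.zero_comp]

end cyclic

variable (p : ℕ) [Fact p.Prime]

theorem eq_zero_of_pGroup {n : ℕ} (ihv : ∀ m ≤ n, Van.{u} m) (N : ℕ) :
    ∀ (F : Type u) [Field F] (B : EtCoh.Ab (Spec (CommRingCat.of F))), Good F B →
    ∀ (M : Type u) [Field M] [Algebra F M] [FiniteDimensional F M] [IsGalois F M],
      IsPGroup p Gal(M/F) → Nat.card Gal(M/F) = N →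
      ∀ (y : EtCoh.H (Spec (CommRingCat.of F)) B (n + 2)), pullExt (specOver F M) y = 0 → y = 0 := by
  induction N using Nat.strong_induction_on with
  | _ N ih =>
    intro F _ B hB M _ _ _ _ hG hN y hy
    by_cases h1 : Nat.card Gal(M/F) = 1
    · have := finrank_nsmul_eq_zero (L := M) y hy
      rwa [← IsGalois.card_aut_eq_finrank, h1, one_nsmul] at this
    obtain ⟨H, hHn, hHi, hHc⟩ := exists_cyclic_step p hG h1
    let E : IntermediateField F M := IntermediateField.fixedField H
    have : IsGalois F E := IsGalois.of_fixedField_normal_subgroup H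
    have : IsGalois E M := IsGalois.tower_top_of_isGalois F E M
    have hEM : Nat.card Gal(M/E) = Nat.card H :=
      (IsGalois.card_aut_eq_finrank E M).trans (IntermediateField.finrank_fixedField_eq_card H)
    have hdeg : Module.finrank F E = p := by
      have h : Module.finrank F E * Module.finrank E M = Module.finrank F M := Module.finrank_mul_finrank F E M
      rw [IntermediateField.finrank_fixedField_eq_card, ← IsGalois.card_aut_eq_finrank F M, ← H.index_mul_card,
        hHi] at h
      exact Nat.eq_of_mul_eq_mul_right Nat.card_pos h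
    have hEG : IsPGroup p Gal(M/E) := by
      obtain ⟨a, ha⟩ := (hG.to_subgroup H).exists_card_eq
      exact IsPGroup.of_card (hEM.trans ha)
    have h0 : cls (k := F) E y = 0 :=
      ih _ (by rw [hEM, ← hN]; exact hHc) E _ (hB.restr E) M hEG rfl _ (pullExt_cls E M y hy)
    have : Fact (Nat.card Gal(E/F)).Prime := ⟨by
      rw [IsGalois.card_aut_eq_finrank, hdeg]; exact Fact.out⟩
    have : Nontrivial Gal(E/F) := Finite.one_lt_card_iff_nontrivial.1 (Fact.out : (Nat.card Gal(E/F)).Prime).one_lt
    obtain ⟨σ, hσ⟩ := exists_ne (1 : Gal(E/F))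
    exact eq_zero_of_cyclic E hB σ (fun g => mem_zpowers_of_prime_card rfl hσ) ihv y
      (pullExt_eq_zero_of_cls E y h0)

theorem eq_zero_of_prime_smul {n : ℕ} (ihv : ∀ m ≤ n, Van.{u} m) (hB : Good k B)
    (y : EtCoh.H (Spec (CommRingCat.of k)) B (n + 2)) (hy : p • y = 0) : y = 0 := by
  obtain ⟨L, _, _, _, _, hL⟩ := exists_killed k _ (n + 1) y
  let M := galClosure k L
  have hM : pullExt (specOver k M) y = 0 := killed_mono k (toGalClosure k L) y hL
  obtain ⟨F, _, _, _, _, _, _, _, _, hF, hG⟩ := exists_sylow_field k p M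
  have h0 : cls F y = 0 := eq_zero_of_pGroup p ihv _ F _ (hB.restr F) M hG rfl _ (pullExt_cls F M y hM)
  exact eq_zero_of_coprime_smul ((Fact.out : p.Prime).coprime_iff_not_dvd.2 hF) hy
    (finrank_nsmul_eq_zero (L := F) y (pullExt_eq_zero_of_cls F y h0))

omit p in
/-- good sheaves have no cohomology in positive degrees -/
theorem van : ∀ n, Van.{u} n := by
  intro n
  induction n using Nat.strong_induction_on with
  | _ n ih =>
  intro k _ B hB y
  rcases n with _ | n
  · exact H_one_eq_zero k B hB.h1.galH1Trivial y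
  have ihv : ∀ m ≤ n, Van.{u} m := fun m hm => ih m (Nat.lt_succ_of_le hm)
  obtain ⟨N, hN, hy⟩ := isOfFinAddOrder_iff_nsmul_eq_zero.1 (GalEt.isOfFinAddOrder_H (k := k) B (n + 1) y)
  clear ih
  induction N using Nat.strong_induction_on generalizing y with
  | _ N ih =>
  rcases eq_or_ne N 1 with rfl | h1
  · rwa [one_smul] at hy
  have hp := Nat.minFac_prime h1
  have : Fact N.minFac.Prime := ⟨hp⟩
  obtain ⟨m, hm⟩ := Nat.minFac_dvd N
  have hm0 : 0 < m := Nat.pos_of_ne_zero fun h => by rw [h, mul_zero] at hm; omega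
  refine ih m ?_ y hm0 (eq_zero_of_prime_smul N.minFac ihv hB (m • y) ?_)
  · calc m = 1 * m := (one_mul m).symm
      _ < N.minFac * m := Nat.mul_lt_mul_of_pos_right hp.one_lt hm0
      _ = N := hm.symm
  · rw [← mul_smul, ← hm]; exact hy

end Groth.Agent.BrauerXHens
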