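import Groth.Agent.BrauerXHens.Lift
import Groth.Agent.BrauerXHens.Alg
import Groth.Agent.BrauerXHens.CohTriv

/-!
# Units congruent to one: Hilbert 90 and cohomological triviality on the closed fibre
-/

universe u

open CategoryTheory CategoryTheory.Limits AlgebraicGeometry Opposite

namespace Groth.Agent.BrauerXHens

open Groth.Agent.EtFound Groth.Agent.GalEt

set_option backward.isDefEq.respectTransparency.types false

variable {R : Type u} [CommRing R] [HenselianLocalRing R] {M : Type u} [Field M]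
  [Algebra (IsLocalRing.ResidueField R) M] (D : LiftData R M)

/-- sections of `G_m` over a lift are units of global functions -/
noncomputable def LiftData.gmEquiv : EtCoh.sect (EtCoh.Gm (Spec (CommRingCat.of R))) D.obj ≃+
    ULift.{u + 1} (Additive (Γ(Spec (CommRingCat.of D.E), ⊤) : Type u)ˣ) :=
  AddEquiv.refl _

/-- the unit given by a section of `G_m` over a lift -/
noncomputable def LiftData.val (s : EtCoh.sect (EtCoh.Gm (Spec (CommRingCat.of R))) D.obj) : D.Eˣ :=
  Units.map ((Scheme.ΓSpecIso (CommRingCat.of D.E)).hom.hom : _ →* D.E) (Additive.toMul (D.gmEquiv s).down)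

theorem LiftData.val_injective : Function.Injective D.val := fun a b h =>
  D.gmEquiv.injective (ULift.ext _ _ (Additive.toMul.injective (Units.ext
    ((Scheme.ΓSpecIso (CommRingCat.of D.E)).commRingCatIsoToRingEquiv.injective (congrArg Units.val h)))))

theorem LiftData.val_surjective : Function.Surjective D.val := fun u => by
  refine ⟨D.gmEquiv.symm (ULift.up (Additive.ofMul
    (Units.map ((Scheme.ΓSpecIso (CommRingCat.of D.E)).inv.hom : D.E →* _) u))), Units.ext ?_⟩
  exact (Scheme.ΓSpecIso (CommRingCat.of D.E)).commRingCatIsoToRingEquiv.apply_symm_apply (u : D.E)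

theorem LiftData.val_add (a b : EtCoh.sect (EtCoh.Gm (Spec (CommRingCat.of R))) D.obj) :
    D.val (a + b) = D.val a * D.val b := by
  show Units.map _ (Additive.toMul (D.gmEquiv (a + b)).down) = _
  rw [map_add]
  exact map_mul (Units.map ((Scheme.ΓSpecIso (CommRingCat.of D.E)).hom.hom : _ →* D.E))
    (Additive.toMul (D.gmEquiv a).down) (Additive.toMul (D.gmEquiv b).down)

variable [FiniteDimensional (IsLocalRing.ResidueField R) M] [Algebra.IsSeparable (IsLocalRing.ResidueField R) M]

theorem LiftData.val_map (ψ : D.E →ₐ[R] D.E) (s : EtCoh.sect (EtCoh.Gm (Spec (CommRingCat.of R))) D.obj) :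
    (D.val ((EtCoh.Gm (Spec (CommRingCat.of R))).obj.map (D.objMap ψ).op s) : D.E) = ψ (D.val s : D.E) :=
  congrArg (fun m => m.hom ((Additive.toMul (D.gmEquiv s).down :
      (Γ(Spec (CommRingCat.of D.E), ⊤) : Type u)ˣ) : Γ(Spec (CommRingCat.of D.E), ⊤)))
    (Scheme.ΓSpecIso_naturality (CommRingCat.ofHom ψ.toRingHom))

/-- a subsheaf of `G_m` whose sections on lifts are the units congruent to `1` modulo `I` -/
structure IsOneUnits (I : Ideal R) {F : EtCoh.Ab (Spec (CommRingCat.of R))}
    (ι : F ⟶ EtCoh.Gm (Spec (CommRingCat.of R))) : Prop where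
  inj : ∀ T, Function.Injective (ι.hom.app (op T))
  range : ∀ (M : Type u) [Field M] [Algebra (IsLocalRing.ResidueField R) M]
    [FiniteDimensional (IsLocalRing.ResidueField R) M] [Algebra.IsSeparable (IsLocalRing.ResidueField R) M]
    (D : LiftData R M) (s : EtCoh.sect (EtCoh.Gm (Spec (CommRingCat.of R))) D.obj),
    s ∈ Set.range (ι.hom.app (op D.obj)) ↔ (D.val s : D.E) - 1 ∈ I.map (algebraMap R D.E)

theorem isOneUnits_id : IsOneUnits (R := R) ⊤ (𝟙 (EtCoh.Gm (Spec (CommRingCat.of R)))) where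
  inj _ _ _ h := h
  range M _ _ _ _ D s := ⟨fun _ => by rw [Ideal.map_top]; trivial, fun _ => ⟨s, rfl⟩⟩

variable {I : Ideal R} {F : EtCoh.Ab (Spec (CommRingCat.of R))} {ι : F ⟶ EtCoh.Gm (Spec (CommRingCat.of R))}

theorem ideal_stable (σ : M ≃ₐ[IsLocalRing.ResidueField R] M) (x : D.E) (hx : x ∈ I.map (algebraMap R D.E)) :
    D.act σ x ∈ I.map (algebraMap R D.E) := by
  have h : (I.map (algebraMap R D.E)).map (D.lift σ).toRingHom = I.map (algebraMap R D.E) := by
    rw [Ideal.map_map]
    congr 1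
    exact RingHom.ext fun r => (D.lift σ).commutes r
  have h2 := Ideal.mem_map_of_mem (D.lift σ).toRingHom hx
  rwa [h] at h2

/-- the unit of a section -/
noncomputable def LiftData.fval (ι : F ⟶ EtCoh.Gm (Spec (CommRingCat.of R))) (s : EtCoh.sect F D.obj) : D.Eˣ :=
  D.val (ι.hom.app (op D.obj) s)

theorem fval_act (σ : M ≃ₐ[IsLocalRing.ResidueField R] M) (s : EtCoh.sect F D.obj) :
    (D.fval ι (F.obj.map (D.objMap (D.lift σ)).op s) : D.E) = D.act σ (D.fval ι s : D.E) := by
  show (D.val (ι.hom.app (op D.obj) (F.obj.map (D.objMap (D.lift σ)).op s)) : D.E) = _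
  rw [show ι.hom.app (op D.obj) (F.obj.map (D.objMap (D.lift σ)).op s) =
    (EtCoh.Gm (Spec (CommRingCat.of R))).obj.map (D.objMap (D.lift σ)).op (ι.hom.app (op D.obj) s) from
      NatTrans.naturality_apply ι.hom (D.objMap (D.lift σ)).op s, D.val_map]
  rfl

theorem fval_add (a b : EtCoh.sect F D.obj) : D.fval ι (a + b) = D.fval ι a * D.fval ι b := by
  show D.val (ι.hom.app (op D.obj) (a + b)) = _
  rw [map_add, D.val_add]
  rfl

/-- `H¹` vanishes -/
theorem h1_of_isOneUnits (hι : IsOneUnits I ι) (M : Type u) [Field M] [Algebra (IsLocalRing.ResidueField R) M]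
    [FiniteDimensional (IsLocalRing.ResidueField R) M] [Algebra.IsSeparable (IsLocalRing.ResidueField R) M]
    (G : Type u) [Group G] [Fintype G] (φ : G →* (M ≃ₐ[IsLocalRing.ResidueField R] M)) (hφ : Function.Injective φ)
    (c : G → EtCoh.sect ((EtCoh.pull (cpt R)).obj F) (extObj (IsLocalRing.ResidueField R) M))
    (hc : ∀ g h, c (g * h) = ((EtCoh.pull (cpt R)).obj F).obj.map (autIso _ (φ g)).hom.op (c h) + c g) :
    ∃ b, ∀ g, c g = ((EtCoh.pull (cpt R)).obj F).obj.map (autIso _ (φ g)).hom.op b - b := by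
  obtain ⟨D⟩ := nonempty_liftData R M
  choose c₀ hc₀ using fun g => (D.sectHom_bijective F).2 (c g)
  let σ : G →* (M ≃+* M) := MonoidHom.mk' (fun g => (φ g).toRingEquiv) fun g h => by rw [map_mul]; rfl
  have hσ : Function.Injective σ := fun a b h => hφ (AlgEquiv.ext fun x => RingEquiv.congr_fun (h : _) x)
  let ψ : G →* (D.E ≃+* D.E) := D.act.comp φ
  let f : G → D.Eˣ := fun g => D.fval ι (c₀ g)
  obtain ⟨b, hbJ, hb⟩ := exists_h90 D.q D.q_surj ψ σ hσ (fun g e => D.q_act (φ g) e) (I.map (algebraMap R D.E))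
    (fun g x hx => ideal_stable D (φ g) x hx) f
    (fun g => (hι.range M D _).1 ⟨c₀ g, rfl⟩) fun g h => by
      have e : c₀ (g * h) = F.obj.map (D.objMap (D.lift (φ g))).op (c₀ h) + c₀ g := (D.sectHom_bijective F).1 (by
        rw [map_add, D.sectHom_act, hc₀, hc₀, hc₀, hc])
      show (D.fval ι (c₀ (g * h)) : D.E) = _
      rw [e, fval_add, Units.val_mul, fval_act]
      rfl
  obtain ⟨s, hs⟩ := D.val_surjective b
  obtain ⟨s₀, rfl⟩ := (hι.range M D s).2 (by rw [hs]; exact hbJ)
  refine ⟨D.sectHom F s₀, fun g => ?_⟩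
  rw [← D.sectHom_act, eq_sub_iff_add_eq, ← hc₀ g, ← map_add]
  congr 1
  refine hι.inj _ (D.val_injective (Units.ext ?_))
  show (D.fval ι (c₀ g + s₀) : D.E) = D.fval ι (F.obj.map (D.objMap (D.lift (φ g))).op s₀)
  rw [fval_add, fval_act, Units.val_mul, show D.fval ι s₀ = b from hs]
  exact hb g

theorem h1Good_pull (hι : IsOneUnits I ι) :
    H1Good (IsLocalRing.ResidueField R) ((EtCoh.pull (cpt R)).obj F) :=
  fun M _ _ _ _ G _ _ φ hφ c hc => h1_of_isOneUnits hι M G φ hφ c hc

/-- units congruent to `1` modulo a proper ideal are cohomologically trivial on the closed fibre -/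
theorem good_pull (hI : I ≠ ⊤) (hι : IsOneUnits I ι) :
    Good (IsLocalRing.ResidueField R) ((EtCoh.pull (cpt R)).obj F) where
  h1 M _ _ _ _ G _ _ φ hφ c hc := h1_of_isOneUnits hι M G φ hφ c hc
  tr M _ _ _ _ G _ _ φ hφ t ht := by
    obtain ⟨D⟩ := nonempty_liftData R M
    obtain ⟨t₀, rfl⟩ := (D.sectHom_bijective F).2 t
    let σ : G →* (M ≃+* M) := MonoidHom.mk' (fun g => (φ g).toRingEquiv) fun g h => by rw [map_mul]; rfl
    have hσ : Function.Injective σ := fun a b h => hφ (AlgEquiv.ext fun x => RingEquiv.congr_fun (h : _) x)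
    let ψ : G →* (D.E ≃+* D.E) := D.act.comp φ
    have hJ : I.map (algebraMap R D.E) ≠ ⊤ := fun h => by
      have h1 : I.map (algebraMap R D.E) ≤ (IsLocalRing.maximalIdeal R).map (algebraMap R D.E) :=
        Ideal.map_mono (IsLocalRing.le_maximalIdeal hI)
      rw [← D.ker_q, h, top_le_iff] at h1
      exact RingHom.ker_ne_top D.q h1
    obtain ⟨z, hz, hzx⟩ := exists_norm D.q D.q_surj ψ σ hσ (fun g e => D.q_act (φ g) e) (I.map (algebraMap R D.E))
      hJ (D.fval ι t₀ : D.E) ((hι.range M D _).1 ⟨t₀, rfl⟩) fun g => by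
        have e : F.obj.map (D.objMap (D.lift (φ g))).op t₀ = t₀ :=
          (D.sectHom_bijective F).1 (by rw [D.sectHom_act]; exact ht g)
        show D.act (φ g) (D.fval ι t₀ : D.E) = _
        rw [← fval_act, e]
    obtain ⟨s, hs⟩ := D.val_surjective z
    obtain ⟨s₀, rfl⟩ := (hι.range M D s).2 (by rw [hs]; exact hz)
    refine ⟨D.sectHom F s₀, ?_⟩
    simp only [← D.sectHom_act, ← map_sum]
    congr 1
    refine hι.inj _ (D.val_injective (Units.ext ?_))
    show (D.fval ι (∑ g, F.obj.map (D.objMap (D.lift (φ g))).op s₀) : D.E) = D.fval ι t₀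
    let A : EtCoh.sect F D.obj →+ Additive D.Eˣ :=
      AddMonoidHom.mk' (fun a => Additive.ofMul (D.fval ι a)) fun a b => by rw [fval_add, ofMul_mul]
    have h' := congrArg (fun w => ((Additive.toMul w : D.Eˣ) : D.E))
      (map_sum A (fun g => F.obj.map (D.objMap (D.lift (φ g))).op s₀) Finset.univ)
    simp only [toMul_sum, Units.coe_prod] at h'
    refine h'.trans (Eq.trans (Finset.prod_congr rfl fun g _ => ?_) hzx)
    show (D.fval ι (F.obj.map (D.objMap (D.lift (φ g))).op s₀) : D.E) = D.act (φ g) (z : D.E)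
    rw [fval_act, show D.fval ι s₀ = z from hs]

end Groth.Agent.BrauerXHens
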