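import Groth.Agent.BrauerXHens.Unit
import Groth.Agent.GalEt.H1
import Groth.Agent.Hensel.EtaleResidueExt
import Groth.Agent.Hensel.Pair
import Mathlib.RingTheory.Unramified.LocalRing

/-!
# Lifts of finite separable residue extensions to finite étale local algebras
-/

universe u

open CategoryTheory CategoryTheory.Limits AlgebraicGeometry Opposite

namespace Groth.Agent.BrauerXHens

open Groth.Agent.EtFound Groth.Agent.GalEt

set_option backward.isDefEq.respectTransparency.types false

/-- quotient by the extension of an ideal as a pushout of spectra -/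
theorem isPullback_of_surjective {A A' E E' : Type u} [CommRing A] [CommRing A'] [CommRing E] [CommRing E']
    (r : A →+* A') (a : A →+* E) (a' : A' →+* E') (q : E →+* E') (hr : Function.Surjective r)
    (hq : Function.Surjective q) (hcomm : q.comp a = a'.comp r) (hker : RingHom.ker q = (RingHom.ker r).map a) :
    IsPullback (Spec.map (CommRingCat.ofHom q)) (Spec.map (CommRingCat.ofHom a'))
      (Spec.map (CommRingCat.ofHom a)) (Spec.map (CommRingCat.ofHom r)) := by
  refine isPullback_SpecMap_of_isPushout (CommRingCat.ofHom a) (CommRingCat.ofHom r) _ _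
    (IsPushout.of_isColimit' ⟨by ext x; exact congr($hcomm x)⟩ ?_)
  refine PushoutCocone.IsColimit.mk _ (fun s => CommRingCat.ofHom (RingHom.liftOfSurjective q hq ⟨s.inl.hom, ?_⟩))
    (fun s => ?_) (fun s => ?_) (fun s m h₁ h₂ => ?_)
  · rw [hker, Ideal.map_le_iff_le_comap]
    intro x hx
    show s.inl (a x) = 0
    rw [show s.inl (a x) = s.inr (r x) from congr($(s.condition).hom x), hx, map_zero]
  · ext x
    exact RingHom.liftOfRightInverse_comp_apply q _ (Function.rightInverse_surjInv hq) _ x
  · ext y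
    obtain ⟨x, rfl⟩ := hr y
    show RingHom.liftOfSurjective q hq _ (a' (r x)) = s.inr (r x)
    rw [show a' (r x) = q (a x) from (congr($hcomm x)).symm]
    exact (RingHom.liftOfRightInverse_comp_apply q _ (Function.rightInverse_surjInv hq) _ (a x)).trans
      congr($(s.condition).hom x)
  · ext y
    obtain ⟨x, rfl⟩ := hq y
    exact (congr(($h₁).hom x)).trans
      (RingHom.liftOfRightInverse_comp_apply q _ (Function.rightInverse_surjInv hq) ⟨s.inl.hom, _⟩ x).symm

variable (R : Type u) [CommRing R] [HenselianLocalRing R]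

/-- a finite étale henselian local algebra with prescribed residue field -/
structure LiftData (M : Type u) [Field M] [Algebra (IsLocalRing.ResidueField R) M] where
  /-- the algebra -/
  E : Type u
  [commRing : CommRing E]
  [algebra : Algebra R E]
  [etale : Algebra.Etale R E]
  [finite : Module.Finite R E]
  [henselian : HenselianLocalRing E]
  /-- the residue map -/
  q : E →+* M
  q_surj : Function.Surjective q
  q_comp : q.comp (algebraMap R E) = (algebraMap (IsLocalRing.ResidueField R) M).comp (IsLocalRing.residue R)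
  ker_q : RingHom.ker q = (IsLocalRing.maximalIdeal R).map (algebraMap R E)

attribute [instance] LiftData.commRing LiftData.algebra LiftData.etale LiftData.finite LiftData.henselian

theorem nonempty_liftData (M : Type u) [Field M] [Algebra (IsLocalRing.ResidueField R) M] [FiniteDimensional (IsLocalRing.ResidueField R) M]
    [Algebra.IsSeparable (IsLocalRing.ResidueField R) M] : Nonempty (LiftData R M) := by
  obtain ⟨E, _, _, _, _, hfin, het, ⟨e⟩⟩ := Hensel.exists_finite_etale_residueField R M
  have := Hensel.henselianLocalRing_of_finite R E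
  refine ⟨{ E := E
            q := (e : IsLocalRing.ResidueField E →+* M).comp (IsLocalRing.residue E)
            q_surj := e.surjective.comp IsLocalRing.residue_surjective
            q_comp := ?_
            ker_q := ?_ }⟩
  · ext r
    exact e.commutes (IsLocalRing.residue R r)
  · rw [Algebra.FormallyUnramified.map_maximalIdeal]
    ext x
    rw [RingHom.mem_ker, RingHom.comp_apply, ← IsLocalRing.residue_eq_zero_iff]
    exact EmbeddingLike.map_eq_zero_iff (f := e)

variable {R} {M : Type u} [Field M] [Algebra (IsLocalRing.ResidueField R) M] (D : LiftData R M)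

namespace LiftData

theorem ker_eq_maximalIdeal : RingHom.ker D.q = IsLocalRing.maximalIdeal D.E :=
  IsLocalRing.eq_maximalIdeal (RingHom.ker_isMaximal_of_surjective D.q D.q_surj)

/-- the finite étale scheme of a lift -/
noncomputable def obj : (Spec (CommRingCat.of R)).Etale :=
  haveI : AlgebraicGeometry.Etale (Spec.map (CommRingCat.ofHom (algebraMap R D.E))) :=
    (HasRingHomProperty.Spec_iff (P := @AlgebraicGeometry.Etale)).2 (RingHom.etale_algebraMap.2 inferInstance)
  Scheme.Etale.mk (Spec.map (CommRingCat.ofHom (algebraMap R D.E)))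

instance isFinite_obj : IsFinite D.obj.hom :=
  (IsFinite.SpecMap_iff (f := CommRingCat.ofHom (algebraMap R D.E))).2 (RingHom.finite_algebraMap.2 inferInstance)

theorem closedPoint_over : D.obj.hom.base (IsLocalRing.closedPoint D.E) = IsLocalRing.closedPoint R := by
  obtain ⟨q₀, hq, hq₀⟩ := exists_specializes_closedFibre D.obj.hom (IsLocalRing.closedPoint D.E : D.obj.left)
  have : q₀ = IsLocalRing.closedPoint D.E :=
    ((IsLocalRing.specializes_closedPoint (q₀ : Spec (CommRingCat.of D.E))).antisymm hq).eq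
  exact this ▸ hq₀

variable [FiniteDimensional (IsLocalRing.ResidueField R) M] [Algebra.IsSeparable (IsLocalRing.ResidueField R) M]

theorem isPullback : IsPullback (Spec.map (CommRingCat.ofHom D.q))
    (Spec.map (CommRingCat.ofHom (algebraMap (IsLocalRing.ResidueField R) M))) (Spec.map (CommRingCat.ofHom (algebraMap R D.E))) (cpt R) :=
  isPullback_of_surjective _ _ _ _ IsLocalRing.residue_surjective D.q_surj D.q_comp
    (by rw [D.ker_q, IsLocalRing.ker_residue])

/-- its closed fibre is the spectrum of the residue extension -/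
noncomputable def bcIso : (EtCoh.bc (cpt R)).obj D.obj ≅ extObj (IsLocalRing.ResidueField R) M :=
  MorphismProperty.Over.isoMk D.isPullback.isoPullback.symm (by
    show D.isPullback.isoPullback.inv ≫ Spec.map (CommRingCat.ofHom (algebraMap (IsLocalRing.ResidueField R) M)) = _
    exact D.isPullback.isoPullback_inv_snd)

theorem bcIso_hom_fst : D.bcIso.hom.left ≫ Spec.map (CommRingCat.ofHom D.q) =
    (pullback.fst D.obj.hom (cpt R) : ((EtCoh.bc (cpt R)).obj D.obj).left ⟶ D.obj.left) :=
  D.isPullback.isoPullback_inv_fst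

/-- endomorphisms -/
noncomputable def objMap (ψ : D.E →ₐ[R] D.E) : D.obj ⟶ D.obj :=
  MorphismProperty.Over.homMk (Spec.map (CommRingCat.ofHom ψ.toRingHom)) (by
    show Spec.map (CommRingCat.ofHom ψ.toRingHom) ≫ Spec.map (CommRingCat.ofHom (algebraMap R D.E)) =
      Spec.map (CommRingCat.ofHom (algebraMap R D.E))
    rw [← Spec.map_comp, ← CommRingCat.ofHom_comp]
    exact congrArg (fun t => Spec.map (CommRingCat.ofHom t)) (RingHom.ext fun r => ψ.commutes r))

theorem bc_objMap (ψ : D.E →ₐ[R] D.E) (σ : M ≃ₐ[(IsLocalRing.ResidueField R)] M) (h : ∀ e, D.q (ψ e) = σ (D.q e)) :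
    (EtCoh.bc (cpt R)).map (D.objMap ψ) ≫ D.bcIso.hom = D.bcIso.hom ≫ (autIso (IsLocalRing.ResidueField R) σ).hom := by
  have hmono : Mono (Spec.map (CommRingCat.ofHom D.q)) := by
    have : IsClosedImmersion (Spec.map (CommRingCat.ofHom D.q)) := IsClosedImmersion.spec_of_surjective _ D.q_surj
    infer_instance
  refine MorphismProperty.Over.Hom.ext (hmono.right_cancellation _ _ ?_)
  show ((EtCoh.bc (cpt R)).map (D.objMap ψ)).left ≫ D.bcIso.hom.left ≫ Spec.map (CommRingCat.ofHom D.q) =
    D.bcIso.hom.left ≫ Spec.map (CommRingCat.ofHom σ.toAlgHom.toRingHom) ≫ Spec.map (CommRingCat.ofHom D.q)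
  have key : Spec.map (CommRingCat.ofHom σ.toAlgHom.toRingHom) ≫ Spec.map (CommRingCat.ofHom D.q) =
      Spec.map (CommRingCat.ofHom D.q) ≫ Spec.map (CommRingCat.ofHom ψ.toRingHom) := by
    rw [← Spec.map_comp, ← Spec.map_comp, ← CommRingCat.ofHom_comp, ← CommRingCat.ofHom_comp,
      show σ.toAlgHom.toRingHom.comp D.q = D.q.comp ψ.toRingHom from RingHom.ext fun e => (h e).symm]
  refine Eq.trans ?_ (congrArg (D.bcIso.hom.left ≫ ·) key.symm)
  refine Eq.trans ?_ (Category.assoc _ _ _)
  exact ((congrArg (((EtCoh.bc (cpt R)).map (D.objMap ψ)).left ≫ ·) D.bcIso_hom_fst).trans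
    (EtCoh.isPullback_bc_map (cpt R) (D.objMap ψ)).w).trans
      (congrArg (· ≫ Spec.map (CommRingCat.ofHom ψ.toRingHom)) D.bcIso_hom_fst.symm)

theorem existsUnique_lift (σ : M ≃ₐ[(IsLocalRing.ResidueField R)] M) : ∃! ψ : D.E →ₐ[R] D.E, ∀ e, D.q (ψ e) = σ (D.q e) := by
  let I := IsLocalRing.maximalIdeal D.E
  let χ : D.E ⧸ I →+* M := Ideal.Quotient.lift I D.q fun e he => by
    rw [← RingHom.mem_ker, D.ker_eq_maximalIdeal]; exact he
  have hχ : Function.Bijective χ := ⟨(injective_iff_map_eq_zero χ).2 fun x hx => by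
      obtain ⟨e, rfl⟩ := Ideal.Quotient.mk_surjective x
      rw [Ideal.Quotient.lift_mk, ← RingHom.mem_ker, D.ker_eq_maximalIdeal] at hx
      exact Ideal.Quotient.eq_zero_iff_mem.2 hx,
    fun m => (D.q_surj m).elim fun e he => ⟨Ideal.Quotient.mk I e, he⟩⟩
  let χe := RingEquiv.ofBijective χ hχ
  let τ : D.E →ₐ[R] D.E ⧸ I :=
    AlgHom.mk (χe.symm.toRingHom.comp ((σ.toAlgHom.toRingHom).comp D.q)) fun r => χe.injective <| by
      show χe (χe.symm (σ (D.q (algebraMap R D.E r)))) = χ (Ideal.Quotient.mk I (algebraMap R D.E r))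
      rw [χe.apply_symm_apply, show D.q (algebraMap R D.E r) = algebraMap (IsLocalRing.ResidueField R) M (IsLocalRing.residue R r) from
        congr($(D.q_comp) r), σ.commutes]
      exact (congr($(D.q_comp) r)).symm
  obtain ⟨ψ, hψ, huniq⟩ := Hensel.existsUnique_etale_lift_of_algebra I τ
  have hτ : ∀ e, χ (τ e) = σ (D.q e) := fun e => χe.apply_symm_apply _
  refine ⟨ψ, fun e => ?_, fun ψ' hψ' => huniq ψ' (AlgHom.ext fun e => hχ.1 ((hψ' e).trans (hτ e).symm))⟩
  rw [← hτ e, ← show Ideal.Quotient.mk I (ψ e) = τ e from congr($hψ e)]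
  rfl

/-- the lift of an automorphism of the residue extension -/
noncomputable def lift (σ : M ≃ₐ[(IsLocalRing.ResidueField R)] M) : D.E →ₐ[R] D.E := (D.existsUnique_lift σ).choose

theorem q_lift (σ : M ≃ₐ[(IsLocalRing.ResidueField R)] M) (e : D.E) : D.q (D.lift σ e) = σ (D.q e) :=
  (D.existsUnique_lift σ).choose_spec.1 e

theorem lift_unique (σ : M ≃ₐ[(IsLocalRing.ResidueField R)] M) (ψ : D.E →ₐ[R] D.E) (h : ∀ e, D.q (ψ e) = σ (D.q e)) : ψ = D.lift σ :=
  (D.existsUnique_lift σ).choose_spec.2 ψ h

theorem lift_mul (σ τ : M ≃ₐ[(IsLocalRing.ResidueField R)] M) : D.lift (σ * τ) = (D.lift σ).comp (D.lift τ) :=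
  (D.lift_unique (σ * τ) _ fun e => by rw [AlgHom.comp_apply, q_lift, q_lift]; rfl).symm

theorem lift_one : D.lift 1 = AlgHom.id R D.E :=
  (D.lift_unique 1 _ fun e => rfl).symm

/-- the action on the lift -/
noncomputable def act : (M ≃ₐ[(IsLocalRing.ResidueField R)] M) →* (D.E ≃+* D.E) where
  toFun σ := RingEquiv.ofRingHom (D.lift σ).toRingHom (D.lift σ⁻¹).toRingHom
    (RingHom.ext fun e => congr($(((D.lift_mul σ σ⁻¹).symm.trans
      (congrArg D.lift (mul_inv_cancel σ))).trans D.lift_one) e))
    (RingHom.ext fun e => congr($(((D.lift_mul σ⁻¹ σ).symm.trans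
      (congrArg D.lift (inv_mul_cancel σ))).trans D.lift_one) e))
  map_one' := RingEquiv.ext fun e => congr($(D.lift_one) e)
  map_mul' σ τ := RingEquiv.ext fun e => congr($(D.lift_mul σ τ) e)

theorem q_act (σ : M ≃ₐ[(IsLocalRing.ResidueField R)] M) (e : D.E) : D.q (D.act σ e) = σ (D.q e) := D.q_lift σ e

end LiftData

/-- every point over the closed point is reached by a finite étale scheme -/
theorem exists_finite_through (V : (Spec (CommRingCat.of R)).Etale) (v : V.left)
    (hv : V.hom.base v = IsLocalRing.closedPoint R) :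
    ∃ (W : (Spec (CommRingCat.of R)).Etale) (b : W ⟶ V), IsFinite W.hom ∧ v ∈ Set.range b.left.base := by
  obtain ⟨z, hz, -⟩ := Scheme.Pullback.exists_preimage_pullback (f := V.hom) (g := cpt R) v default
    (hv.trans (cpt_base R default).symm)
  obtain ⟨L, _, _, _, _, g, w, hw⟩ := exists_extObj_through (IsLocalRing.ResidueField R) (Z := (EtCoh.bc (cpt R)).obj V) z
  obtain ⟨D⟩ := nonempty_liftData R L
  let χ : IsLocalRing.ResidueField D.E →+* L := Ideal.Quotient.lift _ D.q fun e he => by
    rw [← RingHom.mem_ker, D.ker_eq_maximalIdeal]; exact he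
  have hχ : Function.Bijective χ := ⟨χ.injective,
    fun m => (D.q_surj m).elim fun e he => ⟨IsLocalRing.residue D.E e, he⟩⟩
  let χe := (RingEquiv.ofBijective χ hχ).symm
  let j : Spec (CommRingCat.of (IsLocalRing.ResidueField D.E)) ⟶ Spec (CommRingCat.of L) :=
    Spec.map (CommRingCat.ofHom χe.toRingHom)
  let a := Spec.map (CommRingCat.ofHom (algebraMap R D.E))
  let u := j ≫ g.left ≫ (pullback.fst V.hom (cpt R) : ((EtCoh.bc (cpt R)).obj V).left ⟶ V.left)
  have hcond : u ≫ V.hom = cpt D.E ≫ a := by
    have e1 : g.left ≫ (pullback.snd V.hom (cpt R) :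
        ((EtCoh.bc (cpt R)).obj V).left ⟶ Spec (CommRingCat.of (IsLocalRing.ResidueField R))) =
        Spec.map (CommRingCat.ofHom (algebraMap (IsLocalRing.ResidueField R) L)) := MorphismProperty.Over.w g
    have e2 : u ≫ V.hom = j ≫ (g.left ≫ (pullback.snd V.hom (cpt R) :
        ((EtCoh.bc (cpt R)).obj V).left ⟶ Spec (CommRingCat.of (IsLocalRing.ResidueField R)))) ≫ cpt R := by
      simp only [u, Category.assoc]
      exact congrArg (fun m => j ≫ g.left ≫ m) pullback.condition
    refine (e2.trans (congrArg (fun m => j ≫ m ≫ cpt R) e1)).trans ?_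
    simp only [j, a, cpt, ← Spec.map_comp, ← CommRingCat.ofHom_comp]
    refine congrArg (fun t => Spec.map (CommRingCat.ofHom t)) (RingHom.ext fun r => hχ.1 ?_)
    show χ (χe (algebraMap (IsLocalRing.ResidueField R) L (IsLocalRing.residue R r))) = χ (IsLocalRing.residue D.E (algebraMap R D.E r))
    rw [show χ (χe (algebraMap (IsLocalRing.ResidueField R) L (IsLocalRing.residue R r))) = algebraMap (IsLocalRing.ResidueField R) L (IsLocalRing.residue R r) from
      (RingEquiv.ofBijective χ hχ).apply_symm_apply _]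
    exact (congr($(D.q_comp) r)).symm
  have : AlgebraicGeometry.Etale V.hom := V.prop
  obtain ⟨σ, ⟨hσ₁, hσ₂⟩, -⟩ := existsUnique_section D.E (pullback.snd V.hom a) (pullback.lift u (cpt D.E) hcond)
    (pullback.lift_snd _ _ _)
  let b : D.obj ⟶ V := MorphismProperty.Over.homMk (σ ≫ pullback.fst V.hom a) (by
    show (σ ≫ pullback.fst V.hom a) ≫ V.hom = a
    rw [Category.assoc, pullback.condition, ← Category.assoc, hσ₁, Category.id_comp])
  refine ⟨D.obj, b, D.isFinite_obj, IsLocalRing.closedPoint D.E, ?_⟩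
  have e3 : cpt D.E ≫ σ ≫ pullback.fst V.hom a = u := by rw [← Category.assoc, hσ₂, pullback.lift_fst]
  rw [← cpt_base D.E default]
  show (σ ≫ pullback.fst V.hom a).base ((cpt D.E).base default) = v
  rw [← Scheme.Hom.comp_apply, e3]
  show (j ≫ g.left ≫ pullback.fst V.hom (cpt R)).base default = v
  rw [Scheme.Hom.comp_apply, Scheme.Hom.comp_apply]
  have : j.base default = w := Subsingleton.elim (α := Spec (CommRingCat.of L)) _ _
  erw [this, hw]
  exact hz

variable [FiniteDimensional (IsLocalRing.ResidueField R) M] [Algebra.IsSeparable (IsLocalRing.ResidueField R) M] (F : EtCoh.Ab (Spec (CommRingCat.of R)))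

/-- sections over the lift = sections of the closed fibre over the residue extension -/
noncomputable def LiftData.sectHom :
    EtCoh.sect F D.obj →+ EtCoh.sect ((EtCoh.pull (cpt R)).obj F) (extObj (IsLocalRing.ResidueField R) M) :=
  (((EtCoh.pull (cpt R)).obj F).obj.map D.bcIso.inv.op).hom.comp (unitSect F D.obj)

theorem LiftData.sectHom_bijective : Function.Bijective (D.sectHom F) := by
  let B := (EtCoh.pull (cpt R)).obj F
  refine Function.Bijective.comp (g := B.obj.map D.bcIso.inv.op) ?_
    ⟨unitSect_injective F D.obj, unitSect_surjective F D.obj (IsLocalRing.closedPoint D.E) D.closedPoint_over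
      (fun x => IsLocalRing.specializes_closedPoint (x : Spec (CommRingCat.of D.E))) exists_finite_through⟩
  exact Function.bijective_iff_has_inverse.2 ⟨B.obj.map D.bcIso.hom.op,
    fun x => by rw [hom_comp_map B, D.bcIso.hom_inv_id, GalEt.id_map],
    fun x => by rw [hom_comp_map B, D.bcIso.inv_hom_id, GalEt.id_map]⟩

theorem LiftData.sectHom_act (σ : M ≃ₐ[(IsLocalRing.ResidueField R)] M) (s : EtCoh.sect F D.obj) :
    D.sectHom F (F.obj.map (D.objMap (D.lift σ)).op s) =
      ((EtCoh.pull (cpt R)).obj F).obj.map (autIso (IsLocalRing.ResidueField R) σ).hom.op (D.sectHom F s) := by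
  let B := (EtCoh.pull (cpt R)).obj F
  show B.obj.map D.bcIso.inv.op (unitSect F D.obj (F.obj.map (D.objMap (D.lift σ)).op s)) =
    B.obj.map (autIso (IsLocalRing.ResidueField R) σ).hom.op (B.obj.map D.bcIso.inv.op (unitSect F D.obj s))
  rw [unitSect_map, hom_comp_map B, hom_comp_map B]
  congr 4
  rw [← cancel_epi D.bcIso.hom, D.bcIso.hom_inv_id_assoc, ← Category.assoc, ← D.bc_objMap _ σ (D.q_lift σ),
    Category.assoc, D.bcIso.hom_inv_id, Category.comp_id]

end Groth.Agent.BrauerXHens
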