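import Groth.Agent.EtLC12.HenselClosedPoint
import Groth.Agent.EtPBC63.Gen
import Groth.Agent.EtFound.GermSupp
import Groth.Agent.EtFound.AbRecollement
import Groth.Agent.GalEt.Cover

/-!
# Sections over finite étale schemes over a henselian local ring are seen on the closed fibre
-/

universe u

open CategoryTheory CategoryTheory.Limits AlgebraicGeometry Opposite

namespace Groth.Agent.BrauerXHens

open Groth.Agent.EtFound

set_option backward.isDefEq.respectTransparency.types false

variable {R : Type u} [CommRing R] [HenselianLocalRing R]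

/-- finite over the base: every point specializes to a point of the closed fibre -/
theorem exists_specializes_closedFibre {T : Scheme.{u}} (f : T ⟶ Spec (CommRingCat.of R)) [IsFinite f] (q : T) :
    ∃ q₀ : T, q ⤳ q₀ ∧ f.base q₀ = IsLocalRing.closedPoint R := by
  have : CompactSpace T := QuasiCompact.compactSpace_of_compactSpace f
  obtain ⟨q₀, hq₀, hcl⟩ := (isClosed_closure (s := ({q} : Set T))).exists_closed_singleton
    ⟨q, subset_closure rfl⟩
  refine ⟨q₀, specializes_iff_mem_closure.2 hq₀, ?_⟩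
  have h := f.isClosedMap _ hcl
  rw [Set.image_singleton] at h
  exact PrimeSpectrum.ext (IsLocalRing.eq_maximalIdeal ((PrimeSpectrum.isClosed_singleton_iff_isMaximal _).1 h))

/-- a sheaf without stalks on the closed fibre has no sections over finite étale schemes -/
theorem eq_zero_of_closedZero {G : EtCoh.Ab (Spec (CommRingCat.of R))}
    (hG : EtLC12.HenselVanish.ClosedZero R G) (T : (Spec (CommRingCat.of R)).Etale) [IsFinite T.hom]
    (s : EtCoh.sect G T) : s = 0 := by
  refine eq_of_cover G _ _ (equalizerSieve_mem_of_germs G.obj T s 0 fun Ω _ _ ξ t => ?_)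
  by_contra h
  rw [map_zero] at h
  have hmem := (mem_germSupp_iff s t).2 h
  obtain ⟨q₀, hq, hq₀⟩ := exists_specializes_closedFibre T.hom
    ((t.left : Spec (CommRingCat.of Ω) ⟶ T.left).base (default : Spec (CommRingCat.of Ω)))
  have hmem₀ := hq.mem_closed (isClosed_germSupp G T s) hmem
  obtain ⟨Ω', _, _, ξ', z, hz⟩ := exists_algClosed_point T q₀
  rw [← hz] at hmem₀
  refine (mem_germSupp_iff s z).1 hmem₀ ?_
  have hξ : ξ'.base default = IsLocalRing.closedPoint R := by
    rw [← hq₀, ← hz]
    exact (hom_ptOf z).symm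
  exact @Subsingleton.elim _ (AddCommGrpCat.subsingleton_of_isZero (hG Ω' ξ' hξ)) _ _

variable (F : EtCoh.Ab (Spec (CommRingCat.of R)))

theorem closedZero_kernel_unit :
    EtLC12.HenselVanish.ClosedZero R (kernel ((EtCoh.pullPushAdj (cpt R)).unit.app F)) := fun Ω _ _ ξ hξ => by
  have := EtLC12.HenselClosedPoint.isIso_stalk_unit R F Ω ξ hξ
  have : Mono ((EtCoh.stalk ξ).map (kernel.ι ((EtCoh.pullPushAdj (cpt R)).unit.app F))) :=
    (AddCommGrpCat.mono_iff_injective _).2 ((mono_iff_stalks _).1 inferInstance Ω ξ)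
  refine IsZero.of_mono_eq_zero ((EtCoh.stalk ξ).map (kernel.ι ((EtCoh.pullPushAdj (cpt R)).unit.app F))) ?_
  rw [← cancel_mono ((EtCoh.stalk ξ).map ((EtCoh.pullPushAdj (cpt R)).unit.app F)), ← Functor.map_comp,
    kernel.condition, Functor.map_zero, zero_comp]

/-- restriction to the closed fibre, on sections -/
noncomputable def unitSect (T : (Spec (CommRingCat.of R)).Etale) :
    EtCoh.sect F T →+ EtCoh.sect ((EtCoh.pull (cpt R)).obj F) ((EtCoh.bc (cpt R)).obj T) :=
  (((EtCoh.pullPushAdj (cpt R)).unit.app F).hom.app (op T)).hom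

theorem unitSect_map {T T' : (Spec (CommRingCat.of R)).Etale} (a : T' ⟶ T) (s : EtCoh.sect F T) :
    unitSect F T' (F.obj.map a.op s) =
      ((EtCoh.pull (cpt R)).obj F).obj.map ((EtCoh.bc (cpt R)).map a).op (unitSect F T s) :=
  NatTrans.naturality_apply ((EtCoh.pullPushAdj (cpt R)).unit.app F).hom a.op s

theorem unitSect_injective (T : (Spec (CommRingCat.of R)).Etale) [IsFinite T.hom] :
    Function.Injective (unitSect F T) := by
  refine (injective_iff_map_eq_zero (unitSect F T)).2 fun s hs => ?_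
  let X := Spec (CommRingCat.of R)
  let secF := (sheafSections X.smallEtaleTopology AddCommGrpCat.{u + 1}).obj (op T)
  have : PreservesFiniteLimits secF :=
    have : PreservesFiniteLimits (sheafToPresheaf X.smallEtaleTopology AddCommGrpCat.{u + 1}) := inferInstance
    comp_preservesFiniteLimits (sheafToPresheaf X.smallEtaleTopology AddCommGrpCat.{u + 1})
      ((evaluation _ _).obj (op T))
  have : secF.Additive := ⟨fun {F G f g} => rfl⟩
  let S := ShortComplex.mk (kernel.ι ((EtCoh.pullPushAdj (cpt R)).unit.app F))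
    ((EtCoh.pullPushAdj (cpt R)).unit.app F) (kernel.condition _)
  have hS : S.Exact := ShortComplex.exact_of_f_is_kernel _ (kernelIsKernel _)
  have hS' : (S.map secF).Exact :=
    (((Functor.preservesFiniteLimits_tfae secF).out 3 1 rfl rfl).1 inferInstance S ⟨hS, inferInstance⟩).1
  obtain ⟨a, ha⟩ := (ShortComplex.ab_exact_iff _).1 hS' s hs
  rw [show a = 0 from eq_zero_of_closedZero (closedZero_kernel_unit F) T a] at ha
  exact ha.symm.trans (map_zero _)

/-- germs at the closed fibre lift -/
theorem exists_local_lift (T : (Spec (CommRingCat.of R)).Etale)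
    (t : EtCoh.sect ((EtCoh.pull (cpt R)).obj F) ((EtCoh.bc (cpt R)).obj T))
    (q₀ : T.left) (hq₀ : T.hom.base q₀ = IsLocalRing.closedPoint R) :
    ∃ (V : (Spec (CommRingCat.of R)).Etale) (a : V ⟶ T) (v : V.left) (s : EtCoh.sect F V),
      a.left.base v = q₀ ∧
        unitSect F V s = ((EtCoh.pull (cpt R)).obj F).obj.map ((EtCoh.bc (cpt R)).map a).op t := by
  obtain ⟨Ω, _, _, ξ, z, hz⟩ := exists_algClosed_point T q₀
  have hξ : ξ.base default = IsLocalRing.closedPoint R := by
    rw [← hq₀, ← hz]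
    exact (hom_ptOf z).symm
  let Φ := Scheme.pointSmallEtale ξ
  let G := (EtCoh.push (cpt R)).obj ((EtCoh.pull (cpt R)).obj F)
  have := EtLC12.HenselClosedPoint.isIso_stalk_unit R F Ω ξ hξ
  obtain ⟨c, hc⟩ := ((ConcreteCategory.isIso_iff_bijective _).1 this).2 (Φ.toPresheafFiber T z G.obj t)
  obtain ⟨V₁, z₁, s₁, rfl⟩ := Φ.toPresheafFiber_jointly_surjective c
  replace hc := (EtPBC63.stalk_map_germ _ V₁ z₁ s₁).symm.trans hc
  obtain ⟨P, f₁, f₀, -⟩ := IsCofilteredOrEmpty.cone_objs (C := Φ.fiber.Elements) ⟨V₁, z₁⟩ ⟨T, z⟩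
  change EtCoh.sect F V₁ at s₁
  have hc' : Φ.toPresheafFiber P.fst P.snd G.obj (G.obj.map f₁.val.op (unitSect F V₁ s₁)) =
      Φ.toPresheafFiber P.fst P.snd G.obj (G.obj.map f₀.val.op t) := by
    rw [Φ.toPresheafFiber_w_apply, Φ.toPresheafFiber_w_apply, f₁.property, f₀.property]
    exact hc
  obtain ⟨W, r, w, hw, he⟩ := (Φ.toPresheafFiber_eq_iff' P.fst P.snd _ _).1 hc'
  refine ⟨W, r ≫ f₀.val, (w.left : Spec (CommRingCat.of Ω) ⟶ W.left).base (default : Spec (CommRingCat.of Ω)),
    F.obj.map (r ≫ f₁.val).op s₁, ?_, ?_⟩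
  · have h : Φ.fiber.map (r ≫ f₀.val) w = z := by
      rw [Φ.fiber.map_comp]
      exact (congrArg (Φ.fiber.map f₀.val) hw).trans f₀.property
    exact (Scheme.Hom.comp_apply _ _ _).symm.trans ((congrArg (fun y : Φ.fiber.obj T =>
      (y.left : Spec (CommRingCat.of Ω) ⟶ T.left).base (default : Spec (CommRingCat.of Ω))) h).trans hz)
  · rw [unitSect_map]
    change G.obj.map (r ≫ f₁.val).op (unitSect F V₁ s₁) = G.obj.map (r ≫ f₀.val).op t
    rw [← GalEt.hom_comp_map G, ← GalEt.hom_comp_map G]
    exact he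

/-- surjectivity, given finite étale refinements through the closed fibre -/
theorem unitSect_surjective (T : (Spec (CommRingCat.of R)).Etale) [IsFinite T.hom]
    (q₀ : T.left) (hq₀ : T.hom.base q₀ = IsLocalRing.closedPoint R) (hloc : ∀ q : T.left, q ⤳ q₀)
    (href : ∀ (V : (Spec (CommRingCat.of R)).Etale) (v : V.left), V.hom.base v = IsLocalRing.closedPoint R →
      ∃ (W : (Spec (CommRingCat.of R)).Etale) (b : W ⟶ V), IsFinite W.hom ∧ v ∈ Set.range b.left.base) :
    Function.Surjective (unitSect F T) := by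
  intro t
  obtain ⟨V, a, v, s, hv, hs⟩ := exists_local_lift F T t q₀ hq₀
  have hvc : V.hom.base v = IsLocalRing.closedPoint R := by
    rw [← MorphismProperty.Over.w a, Scheme.Hom.comp_apply, hv, hq₀]
  obtain ⟨W, b, hW, w, hw⟩ := href V v hvc
  let p := b ≫ a
  let B := (EtCoh.pull (cpt R)).obj F
  obtain ⟨s', hs'⟩ : ∃ s', unitSect F W s' = B.obj.map ((EtCoh.bc (cpt R)).map p).op t :=
    ⟨F.obj.map b.op s, by rw [unitSect_map, hs, GalEt.hom_comp_map B, ← Functor.map_comp]⟩
  have hetp : AlgebraicGeometry.Etale p.left := etale_left p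
  have hopen : IsOpen (Set.range p.left.base) := p.left.isOpenMap.isOpen_range
  have hq : q₀ ∈ Set.range p.left.base := ⟨w, by
    show (b.left ≫ a.left).base w = q₀
    rw [Scheme.Hom.comp_apply, hw, hv]⟩
  have hcov : Sieve.generate (Presieve.singleton p) ∈ (Spec (CommRingCat.of R)).smallEtaleTopology T := by
    refine (mem_topology_iff _).2 fun q => ?_
    obtain ⟨w', hw'⟩ := (hloc q).mem_open hopen hq
    exact ⟨W, p, w', Sieve.le_generate _ _ _ Presieve.singleton.mk, hw'⟩
  have hF := ((isSheaf_iff_isSheaf_of_type _ _).1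
    ((sheafCompose (Spec (CommRingCat.of R)).smallEtaleTopology (forget AddCommGrpCat.{u + 1})).obj F).property)
    (Sieve.generate (Presieve.singleton p)) hcov
  rw [← Presieve.isSheafFor_iff_generate, Presieve.isSheafFor_singleton] at hF
  -- the pullback of `W` with itself is finite over the base
  have hWT : p.left ≫ T.hom = W.hom := MorphismProperty.Over.w p
  have : IsFinite p.left := by
    have : IsFinite (p.left ≫ T.hom) := by rw [hWT]; exact hW
    exact IsFinite.of_comp p.left T.hom
  have : AlgebraicGeometry.Etale W.hom := W.prop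
  have : AlgebraicGeometry.Etale (pullback.fst p.left p.left ≫ W.hom) := inferInstance
  let W₂ : (Spec (CommRingCat.of R)).Etale := Scheme.Etale.mk (pullback.fst p.left p.left ≫ W.hom)
  have : IsFinite W₂.hom := by
    show IsFinite (pullback.fst p.left p.left ≫ W.hom)
    infer_instance
  let g₁ : W₂ ⟶ W := MorphismProperty.Over.homMk (pullback.fst p.left p.left) rfl
  let g₂ : W₂ ⟶ W := MorphismProperty.Over.homMk (pullback.snd p.left p.left) (by
    show pullback.snd p.left p.left ≫ W.hom = pullback.fst p.left p.left ≫ W.hom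
    rw [← hWT, pullback.condition_assoc])
  have hg : F.obj.map g₁.op s' = F.obj.map g₂.op s' := by
    refine unitSect_injective F W₂ ?_
    rw [unitSect_map, unitSect_map, hs', GalEt.hom_comp_map B, GalEt.hom_comp_map B, ← Functor.map_comp,
      ← Functor.map_comp]
    rw [show g₁ ≫ p = g₂ ≫ p from MorphismProperty.Over.Hom.ext pullback.condition]
  obtain ⟨x, hx⟩ := (hF s' fun {Z} c d hcd => by
    let l : Z ⟶ W₂ := MorphismProperty.Over.homMk (pullback.lift c.left d.left (congrArg (fun m => m.left) hcd))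
      (by
        show pullback.lift c.left d.left _ ≫ pullback.fst p.left p.left ≫ W.hom = Z.hom
        rw [pullback.lift_fst_assoc]
        exact MorphismProperty.Over.w c)
    have h1 : l ≫ g₁ = c := MorphismProperty.Over.Hom.ext (pullback.lift_fst _ _ _)
    have h2 : l ≫ g₂ = d := MorphismProperty.Over.Hom.ext (pullback.lift_snd _ _ _)
    show F.obj.map c.op s' = F.obj.map d.op s'
    rw [← h1, ← h2, ← GalEt.hom_comp_map F, ← GalEt.hom_comp_map F, hg]).exists
  refine ⟨x, ?_⟩
  have hx' : F.obj.map p.op x = s' := hx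
  have hsurj : Sieve.generate (Presieve.singleton ((EtCoh.bc (cpt R)).map p)) ∈
      (Spec (CommRingCat.of (IsLocalRing.ResidueField R))).smallEtaleTopology ((EtCoh.bc (cpt R)).obj T) := by
    refine (mem_topology_iff _).2 fun y => ?_
    obtain ⟨w', hw'⟩ := (hloc ((pullback.fst T.hom (cpt R)).base y)).mem_open hopen hq
    have H := EtCoh.isPullback_bc_map (cpt R) p
    obtain ⟨y', hy', -⟩ := Scheme.Pullback.exists_preimage_pullback
      (f := (pullback.fst T.hom (cpt R) : ((EtCoh.bc (cpt R)).obj T).left ⟶ T.left)) (g := p.left) y w' hw'.symm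
    refine ⟨_, (EtCoh.bc (cpt R)).map p, H.isoPullback.inv.base y', Sieve.le_generate _ _ _ Presieve.singleton.mk, ?_⟩
    rw [← Scheme.Hom.comp_apply, H.isoPullback_inv_fst]
    exact hy'
  refine eq_of_cover B _ _ ((Spec _).smallEtaleTopology.superset_covering ?_ hsurj)
  rintro Y f ⟨Z, c, d, ⟨⟩, rfl⟩
  show B.obj.map _ _ = B.obj.map _ _
  rw [← GalEt.hom_comp_map B, ← GalEt.hom_comp_map B, ← unitSect_map, hx', hs']

end Groth.Agent.BrauerXHens
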